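import Groth.Agent.TwSh99.PushK
import Groth.Agent.QCPull72.Unit
import Groth.Agent.QC70.DevissageAux
import Groth.Agent.Div89.StalkOpen
import Mathlib.AlgebraicGeometry.Morphisms.FiniteType
import Mathlib.AlgebraicGeometry.Morphisms.ClosedImmersion

/-!
A non-zero coherent twisted module on a banded gerbe over a non-empty quasi-compact scheme.
-/

set_option autoImplicit false
set_option backward.isDefEq.respectTransparency false
set_option backward.isDefEq.respectTransparency.types false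
set_option linter.style.haveILetI false

noncomputable section

universe u

open CategoryTheory CategoryTheory.Limits AlgebraicGeometry TopologicalSpace Opposite
open Groth.Agent.QC70

namespace Groth.Agent.TwSh99

open StMod (sch bmap fibCat)

theorem isQCoh_O {S : Scheme.{u}} (𝒴 : AlgSt.Cat S) : StMod.isQCoh 𝒴 (StMod.O 𝒴) := by
  refine ⟨fun ξ' ξ φ g hg => ?_, fun ξ => ?_⟩
  · exact inferInstanceAs (IsIso (PicLoc.pullbackStructureIso g).hom)
  · show (Coh.structureModule (sch 𝒴 ξ)).IsQuasicoherent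
    infer_instance

theorem false_of_forall_zero {Y Z : Scheme.{u}} (g : Z ⟶ Y) [IsAffine Y] [IsAffine Z] [Nonempty Z]
    (M : Y.Modules) [M.IsQuasicoherent] (h : ∀ z : Γ(M, ⊤), z = 0)
    (Φ : (Scheme.Modules.pullback g).obj M ⟶ Coh.structureModule Z) (_ : IsIso Φ) : False := by
  have hspan := QCPull72.span_unitSec_eq_top g M
    (U := ⊤) (isAffineOpen_top _) (V := ⊤) (isAffineOpen_top _) le_top
  have hrange : Set.range (QCPull72.unitSec g M (U := ⊤) (V := ⊤) le_top) ⊆ {0} := by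
    rintro _ ⟨z, rfl⟩
    rw [h z, QCPull72.unitSec, map_zero]
    exact res_zero _
  have h2 : ∀ w : Γ((Scheme.Modules.pullback g).obj M, ⊤), w = 0 := fun w => by
    have hw : w ∈ (⊤ : Submodule Γ(Z, ⊤) Γ((Scheme.Modules.pullback g).obj M, ⊤)) := Submodule.mem_top
    rw [← hspan] at hw
    have := Submodule.span_mono (R := Γ(Z, ⊤)) hrange hw
    simpa using this
  have h3 : ∀ r : Γ(Coh.structureModule Z, ⊤), r = 0 := fun r => by
    have h := app_inv_app Φ ⊤ r
    rw [h2 ((inv Φ).app ⊤ r), map_zero] at h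
    exact h.symm
  haveI : Nonempty ((⊤ : Z.Opens)) := ⟨⟨Classical.arbitrary _, trivial⟩⟩
  exact one_ne_zero (α := Γ(Z, ⊤)) (h3 (show Γ(Z, ⊤) from 1))

variable {S : Scheme.{u}} {X : Over S} {𝒳 : AlgSt.Cat S} (π : 𝒳 ⥤ᵇ AlgSt.ofSch X)

theorem prK_comp (η : (AlgSt.ofSch X).obj) (x : (fibCat π η).obj) :
    prK π η x ≫ η.sec.down.left = strMap π x.left := by
  have h : x.hom.hom ≫ η.sec.down = (π.obj x.left).sec.down := congrArg ULift.down x.hom.map_sec
  rw [prK, strMap, ← h]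
  simp

theorem exists_toPb (h𝒳 : FibCat.IsFibGrpd 𝒳.p) {η : (AlgSt.ofSch X).obj} {y : 𝒳.obj} (P : Pb π η y)
    (x : (fibCat π η).obj) (χ : x.left ⟶ y) : ∃ c : x ⟶ P.obj, c.left ≫ P.φ = χ := by
  let g := P.isPb.lift (bmap 𝒳 χ) (prK π η x) (by rw [strMap_map, prK_comp])
  obtain ⟨c, hc, hcφ⟩ := exists_fac_sch h𝒳 P.φ χ g (P.isPb.lift_fst _ _ _)
  refine ⟨CostructuredArrow.homMk c ?_, hcφ⟩
  refine ofSch_hom_ext (Over.OverMorphism.ext ?_)
  have h1 : bmap 𝒳 c ≫ prK π η P.obj = prK π η x := by rw [hc]; exact P.isPb.lift_snd _ _ _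
  rw [Stk.EltObj.comp_hom, base_map]
  refine Eq.trans ?_ (show (eqToHom (π.w_obj x.left)).left ≫ prK π η x = x.hom.hom.left by
    rw [prK, ← Over.comp_left]; simp)
  rw [← h1, prK]
  simp [bmap]

/-- An object lying over a closed point of the base whose scheme is finite over the base. -/
theorem exists_finite_obj {A : (Over S)ᵒᵖ ⥤ GrpCat.{u}} {ι : TwSh.BandHom 𝒳 A} [CompactSpace X.left]
    [Nonempty X.left] (h𝒳 : FibCat.IsFibGrpd 𝒳.p)
    (hπ : TwSh.IsBandedGerbe (QuotSh.J Scheme.fppfPrecoverage S) π ι) :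
    ∃ s : 𝒳.obj, IsFinite (strMap π s) ∧ IsAffine (sch 𝒳 s) ∧ Nonempty (sch 𝒳 s) := by
  obtain ⟨x₀, -, hx₀⟩ := IsClosed.exists_closed_singleton (isClosed_univ (X := X.left)) Set.univ_nonempty
  haveI : IsClosedImmersion (X.left.fromSpecResidueField x₀) := isClosed_singleton_iff_isClosedImmersion.mp hx₀
  let i₀ : Over.mk (X.left.fromSpecResidueField x₀ ≫ X.hom) ⟶ X := Over.homMk (X.left.fromSpecResidueField x₀)
  let η₀ : (AlgSt.ofSch X).obj := ⟨Over.mk (X.left.fromSpecResidueField x₀ ≫ X.hom), ⟨i₀⟩⟩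
  obtain ⟨R, hR, hsurj⟩ := hπ.1.1 η₀
  let t : ↥(Spec (X.left.residueField x₀)) := default
  obtain ⟨V, f, v₀, hRf, hv₀, hfl, hfp⟩ := GerbFin99.exists_flat_mem_of_mem_J hR t
  obtain ⟨s', g, hg⟩ := hsurj f hRf
  let m : sch 𝒳 s' ⟶ Spec (X.left.residueField x₀) := (eqToHom (π.w_obj s').symm ≫ g.hom).left
  have hV : 𝒳.p.obj s' = V := (π.w_obj s').symm.trans (IsHomLift.domain_eq (AlgSt.ofSch X).p f g)
  have hm : m = (eqToHom hV).left ≫ f.left := by
    show (eqToHom (π.w_obj s').symm ≫ (AlgSt.ofSch X).p.map g).left = _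
    rw [IsHomLift.fac' (AlgSt.ofSch X).p f g]
    simp
  haveI : IsIso (eqToHom hV).left := inferInstanceAs (IsIso ((Over.forget S).map (eqToHom hV)))
  haveI : LocallyOfFiniteType f.left := inferInstance
  haveI : LocallyOfFiniteType m := by rw [hm]; infer_instance
  haveI : JacobsonSpace ↥(sch 𝒳 s') := LocallyOfFiniteType.jacobsonSpace m
  haveI : Nonempty ↥(sch 𝒳 s') := by
    obtain ⟨w, -⟩ := (eqToHom hV).left.surjective v₀
    exact ⟨w⟩
  obtain ⟨v, -, hv⟩ := nonempty_inter_closedPoints (Z := (Set.univ : Set ↥(sch 𝒳 s'))) Set.univ_nonempty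
    isClosed_univ.isLocallyClosed
  haveI : IsClosedImmersion ((sch 𝒳 s').fromSpecResidueField v) := isClosed_singleton_iff_isClosedImmersion.mp hv
  obtain ⟨s, φ, r, hr, hφ⟩ := exists_lift_sch h𝒳 s' _ ((sch 𝒳 s').fromSpecResidueField v)
  haveI := hr
  haveI : IsFinite ((sch 𝒳 s').fromSpecResidueField v ≫ m) :=
    isFinite_iff_locallyOfFiniteType_of_jacobsonSpace.mpr inferInstance
  refine ⟨s, ?_, IsAffine.of_isIso r, ⟨(inv r) default⟩⟩
  have e : strMap π s' = m ≫ X.left.fromSpecResidueField x₀ := by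
    have h : g.hom ≫ i₀ = (π.obj s').sec.down := congrArg ULift.down g.map_sec
    rw [strMap, ← h]
    simp [m, i₀]
  rw [← strMap_map π φ, hφ, e, Category.assoc, ← Category.assoc _ m]
  infer_instance

open TwSh in
/-- the main theorem -/
theorem exists_coherent_twisted [CompactSpace X.left] [Nonempty X.left] (h𝒳 : FibCat.IsFibGrpd 𝒳.p)
    (ι : TwSh.BandHom 𝒳 (TwSh.GmPsh S))
    (hπ : TwSh.IsBandedGerbe (QuotSh.J Scheme.fppfPrecoverage S) π ι) :
    ∃ F : StMod.QCoh 𝒳, TwSh.IsTwisted F.obj ι (𝟙 (TwSh.GmPsh S)) 1 ∧ F.obj.IsFinType ∧ ¬ Limits.IsZero F := by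
  obtain ⟨s, hfin, haff, hne⟩ := exists_finite_obj π h𝒳 hπ
  let η : (AlgSt.ofSch X).obj := π.obj s
  haveI : IsFinite η.sec.down.left := by
    haveI : IsIso (eqToHom (π.w_obj s).symm).left :=
      inferInstanceAs (IsIso ((Over.forget S).map (eqToHom (π.w_obj s).symm)))
    rw [strMap, Over.comp_left] at hfin
    exact (MorphismProperty.cancel_left_of_respectsIso (P := @IsFinite) _ _).mp hfin
  haveI : IsIso (𝟙 η : η ⟶ η).hom := inferInstanceAs (IsIso (𝟙 η.base))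
  let F := slice π s (η := η) (𝟙 η)
  let D := sliceData π s (η := η) (𝟙 η) h𝒳 hπ
  let hι := TwSh.IsBandedGerbe.map_hom_eq_id π hπ
  obtain ⟨G, hG, hGt, ⟨i⟩⟩ := D.exists_comap_iso (χ := 𝟙 (TwSh.GmPsh S))
    (N := StMod.O (srcCat (fibCat π η) F)) (isQCoh_O _)
  have hGf : G.IsFinType := fun ξ => by
    obtain ⟨C⟩ := D.cov ξ
    haveI := C.qcc
    haveI : (G.obj ξ).IsQuasicoherent := hG.2 ξ
    haveI : ∀ j, ((Scheme.Modules.pullback (bmap (fibCat π η) (C.h j))).obj (G.obj ξ)).IsFiniteType := fun j => by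
      haveI : IsIso (adj (G.map (C.h j) rfl)) := hG.1 _ rfl
      haveI : (Coh.structureModule (sch (srcCat (fibCat π η) F) (C.a j))).IsFiniteType := Div89.isFiniteType_unit _
      exact QC70.isFiniteType_of_epi (M := Coh.structureModule (sch (srcCat (fibCat π η) F) (C.a j)))
        ((isoAt i (C.a j)).inv ≫ inv (adj (G.map (C.h j) rfl)))
    exact Desc59.ModDesc.isFiniteType_of_pullback _ C.flat (G.obj ξ)
  let P : ∀ y : 𝒳.obj, Pb π η y := fun y => (exists_pb π η h𝒳 y).some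
  refine ⟨⟨pushK h𝒳 G P, isQCoh_pushK h𝒳 G P hG⟩, isTwisted_pushK h𝒳 G P ι hι hGt,
    isFinType_pushK h𝒳 G P hG hGf, fun hz => ?_⟩
  have h0 : 𝟙 ((Scheme.Modules.pushforward (bmap 𝒳 (P s).φ)).obj (G.obj (P s).obj)) = 0 :=
    congrArg (fun t => t.hom.app s) (hz.eq_of_src (𝟙 _) 0)
  have h1 : ∀ z : Γ(G.obj (P s).obj, ⊤), z = 0 := fun z => by
    let M := (Scheme.Modules.pushforward (bmap 𝒳 (P s).φ)).obj (G.obj (P s).obj)
    exact congrArg (fun t : M ⟶ M => t.app ⊤ z) h0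
  let a₀ : Over s := Over.mk (𝟙 s)
  obtain ⟨c, hc⟩ := exists_toPb π h𝒳 (P s) (F.obj a₀) (𝟙 s)
  haveI := isFinite_pb (P s)
  haveI : IsAffine (sch (fibCat π η) (P s).obj) := isAffine_of_isAffineHom (bmap 𝒳 (P s).φ)
  haveI : IsAffine (sch (fibCat π η) (F.obj a₀)) := haff
  haveI : (G.obj (P s).obj).IsQuasicoherent := hG.2 _
  haveI : IsIso (adj (G.map c rfl)) := hG.1 c rfl
  haveI : Nonempty ↥(sch (fibCat π η) (F.obj a₀)) := hne
  exact false_of_forall_zero (bmap (fibCat π η) c) (G.obj (P s).obj) h1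
    (adj (G.map c rfl) ≫ (isoAt i a₀).hom) inferInstance

end Groth.Agent.TwSh99
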