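import Groth.Agent.TwSh99.Engine
import Groth.Agent.GerbFin99.Descent
import Groth.Prelude.Def_TwSh

/-!
Inverse image along a banded gerbe onto the modules with trivial inertial action.
-/

set_option autoImplicit false
set_option backward.isDefEq.respectTransparency false
set_option backward.isDefEq.respectTransparency.types false
set_option linter.style.haveILetI false

noncomputable section

universe w₁ v₁ v w u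

open CategoryTheory CategoryTheory.Limits AlgebraicGeometry TopologicalSpace Opposite
open Groth.Agent.QC70

namespace Groth.Agent.TwSh99

open StMod (sch bmap)

variable {S : Scheme.{u}} {𝒴 : BasedCategory.{v, w} (Over S)}

section Cover

variable {α : Type w₁} {f : α → 𝒴.obj}

/-- A covering from lifts over the members of a covering sieve of the scheme under an object. -/
theorem exists_cov_of_mem {η : 𝒴.obj} {R : Sieve (𝒴.p.obj η)}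
    (hR : R ∈ QuotSh.J Scheme.fppfPrecoverage S (𝒴.p.obj η)) (P : ∀ a, (f a ⟶ η) → Prop)
    (h : ∀ (V : Over S) (g : V ⟶ 𝒴.p.obj η), R g → ∃ (a : α) (c : f a ⟶ η), 𝒴.p.IsHomLift g c ∧ P a c) :
    ∃ C : Cov f η, ∀ i, P (C.a i) (C.h i) := by
  choose V g v hRg hv hfl hfp using fun t : ↥(sch 𝒴 η) => GerbFin99.exists_flat_mem_of_mem_J hR t
  choose x c hc hP using fun t => h (V t) (g t) (hRg t)
  let e : ∀ t, (𝒴.p.obj (f (x t))).left ⟶ (V t).left := fun t =>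
    (eqToHom (@IsHomLift.domain_eq _ _ _ _ 𝒴.p _ _ _ _ (g t) (c t) (hc t))).left
  have hq : ∀ t, bmap 𝒴 (c t) = e t ≫ (g t).left := fun t => by
    simp only [bmap, @IsHomLift.fac' _ _ _ _ 𝒴.p _ _ _ _ (g t) (c t) (hc t), e]
    simp
  haveI hiso : ∀ t, IsIso (e t) := fun t => inferInstanceAs (IsIso ((Over.forget S).map (eqToHom _)))
  refine ⟨⟨↥(sch 𝒴 η), x, c, fun t => ?_, fun t => ?_, fun t => ?_⟩, hP⟩
  · haveI := hfl t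
    rw [hq t]
    exact MorphismProperty.comp_mem (W := @Flat) _ _ (inferInstance : Flat (e t)) (hfl t)
  · haveI := hfp t
    rw [hq t]
    exact MorphismProperty.comp_mem (W := @LocallyOfFinitePresentation) _ _
      (inferInstance : LocallyOfFinitePresentation (e t)) (hfp t)
  · obtain ⟨y, hy⟩ := (e t).surjective (v t)
    exact ⟨t, y, by rw [hq t]; exact (congrArg (g t).left hy).trans (hv t)⟩

end Cover

/-- lifts in a category fibred in groupoids, in scheme form -/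
theorem exists_lift_sch (h𝒴 : FibCat.IsFibGrpd 𝒴.p) (x : 𝒴.obj) (T : Scheme.{u}) (s : T ⟶ sch 𝒴 x) :
    ∃ (x' : 𝒴.obj) (φ : x' ⟶ x) (r : sch 𝒴 x' ⟶ T), IsIso r ∧ bmap 𝒴 φ = r ≫ s := by
  let g : Over.mk (s ≫ (𝒴.p.obj x).hom) ⟶ 𝒴.p.obj x := Over.homMk s
  obtain ⟨x', hx', φ, hφ⟩ := AlgSt88.fg_exists_lift h𝒴 g
  refine ⟨x', φ, (eqToHom hx').left, inferInstanceAs (IsIso ((Over.forget S).map (eqToHom hx'))), ?_⟩
  rw [bmap, hφ]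
  rfl

theorem lifts_id (h𝒴 : FibCat.IsFibGrpd 𝒴.p) : Lifts (fun x : 𝒴.obj => x) := exists_lift_sch h𝒴

theorem cov_id (η : 𝒴.obj) : Nonempty (Cov (fun x : 𝒴.obj => x) η) :=
  ⟨⟨PUnit.{u + 1}, fun _ => η, fun _ => 𝟙 η, fun _ => by rw [StMod.bmap_id]; infer_instance,
    fun _ => by rw [StMod.bmap_id]; infer_instance, fun x => ⟨⟨⟩, x, by rw [StMod.bmap_id]; rfl⟩⟩⟩

variable (𝒴) {α : Type w₁} [Category.{v₁} α] (F : α ⥤ 𝒴.obj)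

/-- a category over a category over schemes -/
abbrev srcCat : BasedCategory.{v₁, w₁} (Over S) where
  obj := α
  p := F ⋙ 𝒴.p

/-- the functor to the target -/
abbrev srcFun : srcCat 𝒴 F ⥤ᵇ 𝒴 where
  toFunctor := F
  w := rfl

variable {𝒴} {F}

theorem ms_comap (G : StMod.Mod 𝒴) {x' x : (srcCat 𝒴 F).obj} (φ : x' ⟶ x) {U : (sch 𝒴 (F.obj x)).Opens}
    {W : (sch 𝒴 (F.obj x')).Opens} (h : W ≤ bmap 𝒴 (F.map φ) ⁻¹ᵁ U) (x₀ : Γ(G.obj (F.obj x), U)) :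
    ms (StMod.Mod.comap (srcFun 𝒴 F) G) φ h x₀ = ms G (F.map φ) h x₀ := by
  show sc (StMod.castMap rfl rfl (StMod.bmap_map_comm (srcFun 𝒴 F) φ rfl) (G.map (F.map φ) rfl)) h x₀ = _
  rw [StMod.castMap_rfl, StMod.Mod.map_comp_pushforwardCongr]
  rfl

theorem comap_map_app {G G' : StMod.Mod 𝒴} (u : G ⟶ G') (x : α) :
    (StMod.Mod.comapMap (srcFun 𝒴 F) u).app x = u.app (F.obj x) := rfl

theorem lifts_obj (h𝒳 : FibCat.IsFibGrpd (F ⋙ 𝒴.p)) : Lifts (fun a => F.obj a) := fun a T s => by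
  obtain ⟨a', φ, r, hr, hφ⟩ := exists_lift_sch (𝒴 := srcCat 𝒴 F) h𝒳 a T s
  exact ⟨a', F.map φ, r, hr, hφ⟩

theorem cov_obj (hobj : Gerb.LocSurjObj (QuotSh.J Scheme.fppfPrecoverage S) (srcFun 𝒴 F)) (η : 𝒴.obj) :
    Nonempty (Cov (fun a => F.obj a) η) := by
  obtain ⟨R, hR, h⟩ := hobj η
  obtain ⟨C, -⟩ := exists_cov_of_mem (f := fun a => F.obj a) hR (fun _ _ => True) fun V g hg => by
    obtain ⟨x, c, hc⟩ := h g hg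
    exact ⟨x, c, hc, trivial⟩
  exact ⟨C⟩

/-- morphisms between values of the functor lift locally -/
theorem exists_cov_lift (h𝒳 : FibCat.IsFibGrpd (F ⋙ 𝒴.p)) (h𝒴 : FibCat.IsFibGrpd 𝒴.p)
    (hhom : Gerb.LocSurjHom (QuotSh.J Scheme.fppfPrecoverage S) (srcFun 𝒴 F)) {x' x : α}
    (c : F.obj x' ⟶ F.obj x) :
    ∃ C : Cov (𝒴 := srcCat 𝒴 F) (fun a : α => a) x',
      ∀ i, ∃ ψ : C.a i ⟶ x, F.map (C.h i) ≫ c = F.map ψ := by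
  obtain ⟨x₁, hx₁, ψ₁, hψ₁⟩ := AlgSt88.fg_exists_lift (𝒳 := srcCat 𝒴 F) h𝒳
    (V := 𝒴.p.obj (F.obj x')) (x := x) (𝒴.p.map c)
  obtain ⟨β, hβ, hβc⟩ := AlgSt88.fg_exists_fac h𝒴 (F.map ψ₁) c (eqToHom hx₁.symm) (by
    rw [show 𝒴.p.map (F.map ψ₁) = (srcCat 𝒴 F).p.map ψ₁ from rfl, hψ₁]
    exact (Category.assoc _ _ _).symm.trans ((congrArg (· ≫ 𝒴.p.map c) (eqToHom_trans _ _)).trans (Category.id_comp _)))
  have hlift : 𝒴.p.IsHomLift (𝟙 ((srcCat 𝒴 F).p.obj x')) β :=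
    IsHomLift.of_fac' 𝒴.p _ β rfl hx₁ (by rw [hβ]; simp)
  obtain ⟨R, hR, h⟩ := hhom x' x₁ β hlift
  refine exists_cov_of_mem (𝒴 := srcCat 𝒴 F) (f := fun a : α => a) hR
    (fun a φ => ∃ ψ : a ⟶ x, F.map φ ≫ c = F.map ψ) fun V g hg => ?_
  obtain ⟨z, φ, ψ, hφ, -, e⟩ := h g hg
  refine ⟨z, φ, hφ, ψ ≫ ψ₁, ?_⟩
  rw [F.map_comp, ← e, Category.assoc]
  exact congrArg (F.map φ ≫ ·) hβc.symm

section Full

/-- A morphism between inverse images commutes with all morphisms between values of the functor. -/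
theorem ms_app_of_comap (h𝒳 : FibCat.IsFibGrpd (F ⋙ 𝒴.p)) (h𝒴 : FibCat.IsFibGrpd 𝒴.p)
    (hhom : Gerb.LocSurjHom (QuotSh.J Scheme.fppfPrecoverage S) (srcFun 𝒴 F))
    {G G' : StMod.Mod 𝒴} (hG' : StMod.isQCoh 𝒴 G')
    (w : StMod.Mod.comap (srcFun 𝒴 F) G ⟶ StMod.Mod.comap (srcFun 𝒴 F) G') {x' x : α}
    (c : F.obj x' ⟶ F.obj x) (U : (sch 𝒴 (F.obj x)).Opens) (m : Γ(G.obj (F.obj x), U)) :
    (w.app x').app _ (ms G c (le_refl (bmap 𝒴 c ⁻¹ᵁ U)) m) = ms G' c le_rfl ((w.app x).app U m) := by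
  obtain ⟨C, hC⟩ := exists_cov_lift h𝒳 h𝒴 hhom c
  haveI : ∀ i, Flat (bmap 𝒴 (F.map (C.h i))) := C.flat
  refine sc_ext (fun i => bmap 𝒴 (F.map (C.h i))) (fun i => G'.map (F.map (C.h i)) rfl)
    (fun i => hG'.1 _ rfl) (fun y _ => C.surj y) _ _ fun i => ?_
  obtain ⟨ψ, hψ⟩ := hC i
  have h1 : bmap 𝒴 (F.map (C.h i)) ⁻¹ᵁ (bmap 𝒴 c ⁻¹ᵁ U) ≤ bmap 𝒴 (F.map ψ) ⁻¹ᵁ U :=
    le_of_eq (by rw [← hψ, le_comp])
  have h2 : bmap 𝒴 (F.map (C.h i)) ⁻¹ᵁ (bmap 𝒴 c ⁻¹ᵁ U) ≤ bmap 𝒴 (F.map (C.h i) ≫ c) ⁻¹ᵁ U :=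
    le_of_eq (le_comp _ _ _).symm
  show ms G' (F.map (C.h i)) le_rfl _ = ms G' (F.map (C.h i)) le_rfl (ms G' c le_rfl _)
  rw [ms_comp G' _ _ le_rfl le_rfl h2, ms_congr G' hψ h2 h1, ← ms_comap G' ψ h1]
  refine Eq.trans ?_ (ms_hom w ψ h1 m)
  rw [← ms_comap G' (C.h i) le_rfl]
  refine (ms_hom w (C.h i) (le_refl (bmap 𝒴 (F.map (C.h i)) ⁻¹ᵁ (bmap 𝒴 c ⁻¹ᵁ U))) _).symm.trans ?_
  refine congrArg ((w.app (C.a i)).app _) ?_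
  refine (ms_comap G (C.h i) le_rfl _).trans ?_
  rw [ms_comp G _ _ le_rfl le_rfl h2, ms_congr G hψ h2 h1]
  exact (ms_comap G ψ h1 m).symm

theorem exists_of_comap (h𝒳 : FibCat.IsFibGrpd (F ⋙ 𝒴.p)) (h𝒴 : FibCat.IsFibGrpd 𝒴.p)
    (hgerbe : Gerb.IsGerbeOver (QuotSh.J Scheme.fppfPrecoverage S) (srcFun 𝒴 F))
    {G G' : StMod.Mod 𝒴} (hG' : StMod.isQCoh 𝒴 G')
    (w : StMod.Mod.comap (srcFun 𝒴 F) G ⟶ StMod.Mod.comap (srcFun 𝒴 F) G') :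
    ∃ u : G ⟶ G', StMod.Mod.comapMap (srcFun 𝒴 F) u = w := by
  let w' : rest (fun a => F.obj a) G ⟶ rest (fun a => F.obj a) G' :=
    homOfMs (fun a => w.app a) fun x' x c U m => ms_app_of_comap h𝒳 h𝒴 hgerbe.2 hG' w c.hom U m
  obtain ⟨u, hu⟩ := exists_hom_of_rest h𝒴 (lifts_obj h𝒳) (cov_obj hgerbe.1) hG' w'
  exact ⟨u, StMod.Mod.hom_ext fun x => (comap_map_app u x).trans (hu x)⟩

end Full

section EssSurj

variable (M₀ : StMod.Mod (srcCat 𝒴 F))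

/-- restriction along a morphism does not depend on the choice of a morphism with given image -/
def IndepMap : Prop :=
  ∀ {z x : α} (ψ ψ' : z ⟶ x), F.map ψ = F.map ψ' → ∀ (U : (sch (srcCat 𝒴 F) x).Opens)
    (W : (sch (srcCat 𝒴 F) z).Opens) (h : W ≤ bmap (srcCat 𝒴 F) ψ ⁻¹ᵁ U)
    (h' : W ≤ bmap (srcCat 𝒴 F) ψ' ⁻¹ᵁ U) (m : Γ(M₀.obj x, U)), ms M₀ ψ h m = ms M₀ ψ' h' m

variable {M₀}

theorem indepMap_of_isTwisted (h𝒳 : FibCat.IsFibGrpd (F ⋙ 𝒴.p)) (h𝒴 : FibCat.IsFibGrpd 𝒴.p)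
    {A : (Over S)ᵒᵖ ⥤ GrpCat.{u}} (χ : A ⟶ TwSh.GmPsh S) (ι : TwSh.BandHom (srcCat 𝒴 F) A)
    (hι : ∀ x : α, (ι.hom x).range = (Gerb.autMap (srcFun 𝒴 F) x).ker) (hM : TwSh.IsTwisted M₀ ι χ 0) :
    IndepMap M₀ := by
  intro z x ψ ψ' e U W h h' m
  obtain ⟨a, ha, hac⟩ := AlgSt88.fg_exists_fac (𝒳 := srcCat 𝒴 F) h𝒳 ψ ψ' (𝟙 _) (by
    rw [Category.id_comp]
    exact congrArg 𝒴.p.map e)
  haveI : IsIso a := by
    haveI : IsIso ((srcCat 𝒴 F).p.map a) := by rw [ha]; infer_instance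
    exact AlgSt88.fg_isIso_of_isIso_map (𝒳 := srcCat 𝒴 F) h𝒳 a
  have hl : (srcCat 𝒴 F).p.IsHomLift (𝟙 ((srcCat 𝒴 F).p.obj z)) a :=
    IsHomLift.of_fac' _ _ a rfl rfl (by rw [ha]; simp)
  have hl' : (srcCat 𝒴 F).p.IsHomLift (𝟙 ((srcCat 𝒴 F).p.obj z)) (inv a) := by
    refine IsHomLift.of_fac' _ _ (inv a) rfl rfl ?_
    rw [Functor.map_inv]
    refine (IsIso.inv_eq_of_hom_inv_id ?_)
    rw [ha]
    simp
  let τ : Gerb.AutO (𝒳 := srcCat 𝒴 F) z :=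
    { hom := ⟨a, hl⟩
      inv := ⟨inv a, hl'⟩
      hom_inv_id := by apply Functor.Fiber.hom_ext; exact IsIso.hom_inv_id a
      inv_hom_id := by apply Functor.Fiber.hom_ext; exact IsIso.inv_hom_id a }
  have hFa : F.map a = 𝟙 (F.obj z) := by
    refine AlgSt88.fg_hom_ext h𝒴 (F.map ψ) ?_ ?_
    · rw [show 𝒴.p.map (F.map a) = (srcCat 𝒴 F).p.map a from rfl, ha]
      exact (𝒴.p.map_id _).symm
    · rw [← F.map_comp, hac, Category.id_comp, e]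
  have hker : τ ∈ (Gerb.autMap (srcFun 𝒴 F) z).ker := by
    rw [MonoidHom.mem_ker]
    apply Aut.ext; apply Functor.Fiber.hom_ext
    exact hFa
  rw [← hι z] at hker
  obtain ⟨b, hb⟩ := hker
  have hbz : bmap (srcCat 𝒴 F) a = 𝟙 (sch (srcCat 𝒴 F) z) := TwSh.bmap_autO (𝒳 := srcCat 𝒴 F) z τ
  have key : ∀ (V W' : (sch (srcCat 𝒴 F) z).Opens) (h₀ : W' ≤ bmap (srcCat 𝒴 F) a ⁻¹ᵁ V) (h₁ : W' ≤ V)
      (s : Γ(M₀.obj z, V)), ms M₀ a h₀ s = res (M₀.obj z) h₁ s := by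
    intro V W' h₀ h₁ s
    have h2 := hM z b V s
    rw [hb, TwSh.inert_app_apply] at h2
    rw [← ms_of_eq M₀ a hbz (h₁ : W' ≤ 𝟙 (sch (srcCat 𝒴 F) z) ⁻¹ᵁ V) h₀ s, sc_apply]
    refine congrArg (res (M₀.obj z) h₁) (h2.trans ?_)
    rw [zpow_zero, inv_one, Units.val_one]
    simp [TwSh.resTop, TwSh.resR]
  have h1 : W ≤ bmap (srcCat 𝒴 F) a ⁻¹ᵁ W := by
    rw [hbz]; exact le_rfl
  have h3 : W ≤ bmap (srcCat 𝒴 F) (a ≫ ψ) ⁻¹ᵁ U := by rw [hac]; exact h'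
  rw [← ms_congr M₀ hac h3 h', ← ms_comp M₀ a ψ h h1 h3, key W W h1 le_rfl, res_self]

/-- a component of an isomorphism of modules -/
def isoAt {T : Scheme.{u}} {𝒵 : BasedCategory.{v, w₁} (Over T)} {M M' : StMod.Mod 𝒵} (i : M ≅ M') (x : 𝒵.obj) :
    M.obj x ≅ M'.obj x where
  hom := i.hom.app x
  inv := i.inv.app x
  hom_inv_id := by rw [← StMod.Mod.comp_app, i.hom_inv_id, StMod.Mod.id_app]
  inv_hom_id := by rw [← StMod.Mod.comp_app, i.inv_hom_id, StMod.Mod.id_app]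

theorem exists_comap_iso (h𝒳 : FibCat.IsFibGrpd (F ⋙ 𝒴.p)) (h𝒴 : FibCat.IsFibGrpd 𝒴.p)
    (hgerbe : Gerb.IsGerbeOver (QuotSh.J Scheme.fppfPrecoverage S) (srcFun 𝒴 F))
    (hM : StMod.isQCoh (srcCat 𝒴 F) M₀) (hindep : IndepMap M₀) :
    ∃ G : StMod.Mod 𝒴, StMod.isQCoh 𝒴 G ∧ Nonempty (M₀ ≅ StMod.Mod.comap (srcFun 𝒴 F) G) := by
  have key : ∀ {x' x : α} (c : F.obj x' ⟶ F.obj x) (U : (sch 𝒴 (F.obj x)).Opens) (m : Γ(M₀.obj x, U)),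
      ∃ n : Γ(M₀.obj x', bmap 𝒴 c ⁻¹ᵁ U), ∀ (z : α) (φ : z ⟶ x') (ψ : z ⟶ x), F.map φ ≫ c = F.map ψ →
        ∀ (W : (sch (srcCat 𝒴 F) z).Opens) (wφ : W ≤ bmap (srcCat 𝒴 F) φ ⁻¹ᵁ (bmap 𝒴 c ⁻¹ᵁ U))
          (wψ : W ≤ bmap (srcCat 𝒴 F) ψ ⁻¹ᵁ U), ms M₀ φ wφ n = ms M₀ ψ wψ m := by
    intro x' x c U m
    obtain ⟨C, hC⟩ := exists_cov_lift h𝒳 h𝒴 hgerbe.2 c
    let R : ∀ z : α, (z ⟶ x') → Prop := fun z φ => ∃ ψ : z ⟶ x, F.map φ ≫ c = F.map ψ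
    have hle : ∀ {z : α} {φ : z ⟶ x'} (h : R z φ),
        bmap (srcCat 𝒴 F) φ ⁻¹ᵁ (bmap 𝒴 c ⁻¹ᵁ U) ≤ bmap (srcCat 𝒴 F) h.choose ⁻¹ᵁ U := fun {z φ} h => by
      show bmap 𝒴 (F.map φ) ⁻¹ᵁ _ ≤ bmap 𝒴 (F.map h.choose) ⁻¹ᵁ U
      rw [← h.choose_spec, le_comp]
    obtain ⟨n, hn, -⟩ := (bridge (fun a : (srcCat 𝒴 F).obj => a) hM x').existsUnique_glue h𝒳
      (isQCoh_rest _ hM).1 (lifts_id (𝒴 := srcCat 𝒴 F) h𝒳) C R
      (fun {a' a} p φ ⟨ψ, hψ⟩ => ⟨p ≫ ψ, by rw [F.map_comp, Category.assoc, hψ, F.map_comp]⟩) hC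
      (U := bmap 𝒴 c ⁻¹ᵁ U) (fun z φ h => ms M₀ h.choose (hle h) m)
      (fun {a' a} p φ hc φ' hc' e W hW hW' => by
        have w1 : W ≤ bmap (srcCat 𝒴 F) (p ≫ hc.choose) ⁻¹ᵁ U :=
          (hW.trans ((bmap (srcCat 𝒴 F) p).preimage_mono (hle hc))).trans (le_of_eq (le_comp _ _ _).symm)
        refine (ms_comp M₀ p hc.choose (hle hc) hW w1 m).trans ?_
        refine (hindep (p ≫ hc.choose) hc'.choose ?_ U W w1 (hW'.trans (hle hc')) m).trans ?_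
        · rw [F.map_comp, ← hc.choose_spec, ← hc'.choose_spec, ← Category.assoc, ← F.map_comp, e]
        · exact (res_ms M₀ hc'.choose (hle hc') (hW'.trans (hle hc')) hW' m).symm)
    refine ⟨n, fun z φ ψ e W wφ wψ => ?_⟩
    have hc : R z φ := ⟨ψ, e⟩
    refine (res_ms M₀ φ le_rfl wφ wφ n).symm.trans ?_
    refine (congrArg (res (M₀.obj z) wφ) (hn z φ hc)).trans ?_
    refine (res_ms M₀ hc.choose (hle hc) (wφ.trans (hle hc)) wφ m).trans ?_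
    exact hindep hc.choose ψ (hc.choose_spec.symm.trans e) U W _ wψ m
  choose k hk using @key
  have hext : ∀ {x' x : α} (c : F.obj x' ⟶ F.obj x) (V : (sch (srcCat 𝒴 F) x').Opens) (y y' : Γ(M₀.obj x', V)),
      (∀ (z : α) (φ : z ⟶ x') (ψ : z ⟶ x), F.map φ ≫ c = F.map ψ →
        ms M₀ φ (le_refl (bmap (srcCat 𝒴 F) φ ⁻¹ᵁ V)) y = ms M₀ φ (le_refl (bmap (srcCat 𝒴 F) φ ⁻¹ᵁ V)) y') →
        y = y' := by
    intro x' x c V y y' h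
    obtain ⟨C, hC⟩ := exists_cov_lift h𝒳 h𝒴 hgerbe.2 c
    haveI : ∀ i, Flat (bmap (srcCat 𝒴 F) (C.h i)) := C.flat
    refine sc_ext (fun i => bmap (srcCat 𝒴 F) (C.h i)) (fun i => M₀.map (C.h i) rfl) (fun i => hM.1 _ rfl)
      (fun p _ => C.surj p) y y' fun i => ?_
    obtain ⟨ψ, hψ⟩ := hC i
    exact h _ _ ψ hψ
  have hle : ∀ {x' x z : α} (c : F.obj x' ⟶ F.obj x) (φ : z ⟶ x') (ψ : z ⟶ x) (_ : F.map φ ≫ c = F.map ψ)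
      (U : (sch 𝒴 (F.obj x)).Opens),
      bmap (srcCat 𝒴 F) φ ⁻¹ᵁ (bmap 𝒴 c ⁻¹ᵁ U) ≤ bmap (srcCat 𝒴 F) ψ ⁻¹ᵁ U := fun c φ ψ e U => by
    show bmap 𝒴 (F.map φ) ⁻¹ᵁ _ ≤ bmap 𝒴 (F.map ψ) ⁻¹ᵁ U
    rw [← e, le_comp]
  let Z := Ind 𝒴 (fun a => F.obj a)
  let m : ∀ {x' x : Z.obj} (c : x' ⟶ x),
      M₀.obj x ⟶ (Scheme.Modules.pushforward (bmap 𝒴 c.hom)).obj (M₀.obj x') := fun {x' x} c =>
    mkPush (k c.hom)
      (fun U a b => hext c.hom _ _ _ fun z φ ψ e => by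
        rw [hk c.hom U _ z φ ψ e _ le_rfl (hle c.hom φ ψ e U), map_add, map_add,
          hk c.hom U a z φ ψ e _ le_rfl (hle c.hom φ ψ e U), hk c.hom U b z φ ψ e _ le_rfl (hle c.hom φ ψ e U)])
      (fun U r a => hext c.hom _ _ _ fun z φ ψ e => by
        rw [hk c.hom U _ z φ ψ e _ le_rfl (hle c.hom φ ψ e U), ms_smul]
        refine Eq.trans ?_ (ms_smul M₀ φ _ _ _).symm
        rw [hk c.hom U a z φ ψ e _ le_rfl (hle c.hom φ ψ e U)]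
        congr 1
        show (bmap 𝒴 (F.map ψ)).appLE U _ _ r =
          ((bmap 𝒴 c.hom).appLE U _ le_rfl ≫ (bmap 𝒴 (F.map φ)).appLE _ _ _) r
        rw [Scheme.Hom.appLE_comp_appLE]
        simp only [← StMod.bmap_comp, e])
      (fun {U V} hV a => hext c.hom _ _ _ fun z φ ψ e => by
        have h1 : bmap (srcCat 𝒴 F) φ ⁻¹ᵁ (bmap 𝒴 c.hom ⁻¹ᵁ V) ≤ bmap (srcCat 𝒴 F) φ ⁻¹ᵁ (bmap 𝒴 c.hom ⁻¹ᵁ U) :=
          (bmap (srcCat 𝒴 F) φ).preimage_mono ((bmap 𝒴 c.hom).preimage_mono hV)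
        rw [hk c.hom V _ z φ ψ e _ le_rfl (hle c.hom φ ψ e V)]
        refine (ms_res M₀ ψ _ (h1.trans (hle c.hom φ ψ e U)) hV a).trans ?_
        refine (hk c.hom U a z φ ψ e _ h1 (h1.trans (hle c.hom φ ψ e U))).symm.trans ?_
        exact (ms_res M₀ φ le_rfl h1 _ _).symm)
  have hm : ∀ {x' x : Z.obj} (c : x' ⟶ x) (z : α) (φ : z ⟶ x') (ψ : z ⟶ x), F.map φ ≫ c.hom = F.map ψ →
      ∀ (U : (sch 𝒴 (F.obj x)).Opens) (a : Γ(M₀.obj x, U)) (V : (sch (srcCat 𝒴 F) x').Opens)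
        (hV : V ≤ bmap 𝒴 c.hom ⁻¹ᵁ U) (W : (sch (srcCat 𝒴 F) z).Opens) (hW : W ≤ bmap (srcCat 𝒴 F) φ ⁻¹ᵁ V)
        (hW' : W ≤ bmap (srcCat 𝒴 F) ψ ⁻¹ᵁ U), ms M₀ φ hW (sc (m c) hV a) = ms M₀ ψ hW' a := by
    intro x' x c z φ ψ e U a V hV W hW hW'
    rw [← hk c.hom U a z φ ψ e W (hW.trans ((bmap (srcCat 𝒴 F) φ).preimage_mono hV)) hW']
    exact ms_res M₀ φ hW _ hV _
  let Mb : StMod.Mod Z := mkMod (fun x => M₀.obj x) m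
    (fun x U W h h' a => hext (𝟙 (F.obj x)) W _ _ fun z φ ψ e => by
      have w1 : bmap (srcCat 𝒴 F) φ ⁻¹ᵁ W ≤ bmap (srcCat 𝒴 F) φ ⁻¹ᵁ U := (bmap (srcCat 𝒴 F) φ).preimage_mono h'
      refine (hm (𝟙 x) z φ φ (Category.comp_id _) U a W h _ le_rfl w1).trans ?_
      exact (ms_res M₀ φ le_rfl w1 h' a).symm)
    (fun {x'' x' x} c' c U W hW hW' a => hext c'.hom W _ _ fun z φ ψ e => by
      refine hext (F.map ψ ≫ c.hom) _ _ _ fun z' φ' ψ' e' => ?_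
      have wW : bmap (srcCat 𝒴 F) φ' ⁻¹ᵁ (bmap (srcCat 𝒴 F) φ ⁻¹ᵁ W) ≤
          bmap (srcCat 𝒴 F) (φ' ≫ φ) ⁻¹ᵁ W := le_of_eq (le_comp (𝒴 := srcCat 𝒴 F) φ' φ W).symm
      refine (ms_comp M₀ φ' φ le_rfl le_rfl wW _).trans (Eq.trans ?_ (ms_comp M₀ φ' φ le_rfl le_rfl wW _).symm)
      let W₂ := bmap (srcCat 𝒴 F) φ' ⁻¹ᵁ (bmap (srcCat 𝒴 F) φ ⁻¹ᵁ W)
      have e1 : F.map (φ' ≫ φ) ≫ c'.hom = F.map (φ' ≫ ψ) := by
        rw [F.map_comp, F.map_comp, Category.assoc, e]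
      have e2 : F.map (φ' ≫ ψ) ≫ c.hom = F.map ψ' := by rw [F.map_comp, Category.assoc, e']
      have e3 : F.map (φ' ≫ φ) ≫ (c' ≫ c).hom = F.map ψ' := by
        rw [InducedCategory.comp_hom, ← Category.assoc, e1, e2]
      have w1 : W₂ ≤ bmap (srcCat 𝒴 F) (φ' ≫ ψ) ⁻¹ᵁ (bmap 𝒴 c.hom ⁻¹ᵁ U) :=
        (wW.trans ((bmap (srcCat 𝒴 F) (φ' ≫ φ)).preimage_mono hW)).trans (hle c'.hom _ _ e1 _)
      have w2 : W₂ ≤ bmap (srcCat 𝒴 F) ψ' ⁻¹ᵁ U := w1.trans (hle c.hom _ _ e2 _)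
      refine (hm c' z' (φ' ≫ φ) (φ' ≫ ψ) e1 _ _ W hW W₂ wW w1).trans ?_
      refine (hm c z' (φ' ≫ ψ) ψ' e2 U a _ le_rfl W₂ w1 w2).trans ?_
      exact (hm (c' ≫ c) z' (φ' ≫ φ) ψ' e3 U a W hW' W₂ wW w2).symm)
  have hMb : StMod.isQCoh Z Mb := by
    refine ⟨fun x' x c g hg => ?_, fun x => hM.2 x⟩
    subst hg
    obtain ⟨C, hC⟩ := exists_cov_lift h𝒳 h𝒴 hgerbe.2 c.hom
    haveI : ∀ j, Flat (bmap (srcCat 𝒴 F) (C.h j)) := C.flat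
    refine isIso_of_pullback_family (fun j => bmap (srcCat 𝒴 F) (C.h j)) C.surj _ fun j => ?_
    obtain ⟨ψ, hψ⟩ := hC j
    have e : bmap (srcCat 𝒴 F) (C.h j) ≫ bmap 𝒴 c.hom = bmap (srcCat 𝒴 F) ψ := by
      show bmap 𝒴 (F.map (C.h j)) ≫ _ = bmap 𝒴 (F.map ψ)
      rw [← StMod.bmap_comp, hψ]
    refine isIso_map_of_kcomp e (k := m c) (k' := M₀.map (C.h j) rfl) ?_ (hM.1 _ rfl)
    have hh : kcomp e (m c) (M₀.map (C.h j) rfl) = M₀.map ψ rfl := by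
      refine push_ext fun U a => ?_
      rw [← sc_kcomp e (m c) _ le_rfl (LimTop61.preimage_comp_le _ _ e U) le_rfl]
      exact hm c _ (C.h j) ψ hψ U a _ le_rfl _ _ le_rfl
    rw [hh]
    exact hM.1 _ rfl
  obtain ⟨G, hG, ⟨i⟩⟩ := exists_extension h𝒴 (lifts_obj h𝒳) (cov_obj hgerbe.1) hMb
  refine ⟨G, hG, ⟨?_⟩⟩
  let u : StMod.Mod.comap (srcFun 𝒴 F) G ⟶ M₀ := homOfMs (fun x => i.hom.app x) fun x' x φ U a => by
    refine (congrArg ((i.hom.app x').app _) (ms_comap G φ le_rfl a)).trans ?_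
    refine (ms_hom (𝒴 := Ind 𝒴 (fun a => F.obj a)) i.hom (ξ' := x') (ξ := x) (InducedCategory.homMk (F.map φ))
      (le_refl (bmap 𝒴 (F.map φ) ⁻¹ᵁ U)) a).trans ?_
    let b := (i.hom.app x).app U a
    have h1 : bmap 𝒴 (F.map φ) ⁻¹ᵁ U ≤ bmap (srcCat 𝒴 F) (𝟙 x') ⁻¹ᵁ (bmap 𝒴 (F.map φ) ⁻¹ᵁ U) :=
      (le_id (𝒴 := srcCat 𝒴 F) (ξ := x') _).ge
    have h2 := hm (InducedCategory.homMk (F := fun a => F.obj a) (X := x') (Y := x) (F.map φ)) x' (𝟙 x') φ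
      (by rw [F.map_id]; exact Category.id_comp _) U b _ le_rfl _ h1 le_rfl
    exact ((res_self (M := M₀.obj x') _).symm.trans (ms_id M₀ (ξ := x') h1 le_rfl _).symm).trans h2
  exact (StMod.Mod.isoMk (F := StMod.Mod.comap (srcFun 𝒴 F) G) (G := M₀)
    (fun x => isoAt i x)
    fun x' x φ g hg => u.comm φ hg).symm

end EssSurj

end Groth.Agent.TwSh99
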