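import Groth.Agent.TwSh99.Twist
import Groth.Prelude.Def_AlgSt2

/-!
Being twisted is local over the base.
-/

set_option autoImplicit false
set_option backward.isDefEq.respectTransparency false
set_option backward.isDefEq.respectTransparency.types false
set_option linter.style.haveILetI false

noncomputable section

universe u

open CategoryTheory CategoryTheory.Limits AlgebraicGeometry TopologicalSpace Opposite
open Groth.Agent.QC70

namespace Groth.Agent.TwSh99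

open StMod (sch bmap)
open TwSh (resTop charUnit)

variable {S : Scheme.{u}} {X : Over S} {𝒳 : AlgSt.Cat S}

/-- an object of a category over a scheme is covered by objects over the members of a covering of the scheme -/
theorem exists_cov_over (h𝒳 : FibCat.IsFibGrpd 𝒳.p) (π : 𝒳 ⥤ᵇ AlgSt.ofSch X) {I : Type u}
    (η : I → (AlgSt.ofSch X).obj) (hfl : ∀ i, Flat (η i).sec.down.left)
    (hfp : ∀ i, LocallyOfFinitePresentation (η i).sec.down.left)
    (hcov : ∀ x : X.left, ∃ i, x ∈ Set.range (η i).sec.down.left.base) (ξ : 𝒳.obj) :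
    ∃ C : Cov (𝒴 := 𝒳) (fun a => a) ξ, ∀ j, ∃ i, Nonempty (π.obj (C.a j) ⟶ η i) := by
  let s : sch 𝒳 ξ ⟶ X.left := (eqToHom (π.w_obj ξ).symm ≫ (π.obj ξ).sec.down).left
  choose z φ r hr hφ using fun i => exists_lift_sch h𝒳 ξ (pullback s (η i).sec.down.left)
    (pullback.fst s (η i).sec.down.left)
  refine ⟨⟨I, z, φ, fun i => ?_, fun i => ?_, fun x => ?_⟩, fun i => ⟨i, ?_⟩⟩
  · haveI := hr i; haveI := hfl i
    rw [hφ i]; infer_instance
  · haveI := hr i; haveI := hfp i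
    rw [hφ i]; infer_instance
  · obtain ⟨i, y, hy⟩ := hcov (s x)
    obtain ⟨p, hp, -⟩ := Scheme.Pullback.exists_preimage_pullback (f := s) (g := (η i).sec.down.left) x y hy.symm
    haveI := hr i
    obtain ⟨w, rfl⟩ := (r i).surjective p
    exact ⟨i, w, by rw [hφ i]; exact hp⟩
  · have hsec : (π.map (φ i)).hom ≫ (π.obj ξ).sec.down = (π.obj (z i)).sec.down :=
      congrArg ULift.down (π.map (φ i)).map_sec
    let g₀ : sch 𝒳 (z i) ⟶ (η i).base.left := r i ≫ pullback.snd s (η i).sec.down.left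
    have hg₀ : g₀ ≫ (η i).sec.down.left = (𝒳.p.map (φ i)).left ≫ s := by
      show (r i ≫ pullback.snd _ _) ≫ _ = bmap 𝒳 (φ i) ≫ s
      rw [hφ i, Category.assoc, Category.assoc, pullback.condition]
    have hw : g₀ ≫ (η i).base.hom = (𝒳.p.obj (z i)).hom := by
      rw [← Over.w (η i).sec.down, ← Category.assoc, hg₀]
      show ((𝒳.p.map (φ i)).left ≫ (eqToHom (π.w_obj ξ).symm ≫ (π.obj ξ).sec.down).left) ≫ X.hom = _
      rw [Category.assoc, Over.w, Over.w]
    let g : (π.obj (z i)).base ⟶ (η i).base := eqToHom (π.w_obj (z i)) ≫ Over.homMk g₀ hw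
    refine ⟨⟨g, ULift.ext _ _ ?_⟩⟩
    show g ≫ (η i).sec.down = (π.obj (z i)).sec.down
    have hg : (Over.homMk g₀ hw : 𝒳.p.obj (z i) ⟶ (η i).base) ≫ (η i).sec.down =
        𝒳.p.map (φ i) ≫ eqToHom (π.w_obj ξ).symm ≫ (π.obj ξ).sec.down := Over.OverMorphism.ext hg₀
    rw [← hsec, show g = eqToHom (π.w_obj (z i)) ≫ Over.homMk g₀ hw from rfl, Category.assoc, hg,
      show (π.map (φ i)).hom = (AlgSt.ofSch X).p.map (π.map (φ i)) from rfl, AlgSt88.p_map_eq π (φ i)]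
    simp

theorem isTwisted_of_local (h𝒳 : FibCat.IsFibGrpd 𝒳.p) {A : (Over S)ᵒᵖ ⥤ GrpCat.{u}} (χ : A ⟶ TwSh.GmPsh S)
    (d : ℤ) (π : 𝒳 ⥤ᵇ AlgSt.ofSch X) (ι : TwSh.BandHom 𝒳 A)
    (hι : ∀ (ξ : 𝒳.obj) (a : A.obj (op (𝒳.p.obj ξ))), π.map (ι.hom ξ a).hom.1 = 𝟙 _)
    {I : Type u} (η : I → (AlgSt.ofSch X).obj) (hfl : ∀ i, Flat (η i).sec.down.left)
    (hfp : ∀ i, LocallyOfFinitePresentation (η i).sec.down.left)
    (hcov : ∀ x : X.left, ∃ i, x ∈ Set.range (η i).sec.down.left.base) (M : StMod.Mod 𝒳)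
    (hM : StMod.isQCoh 𝒳 M)
    (h : ∀ i, TwSh.IsTwisted (StMod.Mod.comap (StMod.fibFst π (η i)) M) (TwSh.BandHom.fib π (η i) ι hι) χ d) :
    TwSh.IsTwisted M ι χ d := by
  intro ξ a U s
  obtain ⟨C, hC⟩ := exists_cov_over h𝒳 π η hfl hfp hcov ξ
  rw [TwSh.inert_app_apply]
  refine (bridge (fun a => a) hM ξ).ext C _ _ fun j => ?_
  let c := C.h j
  let W := bmap 𝒳 c ⁻¹ᵁ U
  obtain ⟨i, ⟨m⟩⟩ := hC j
  let a' : A.obj (op (𝒳.p.obj (C.a j))) := A.map (𝒳.p.map c).op a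
  let x : (StMod.fibCat π (η i)).obj := CostructuredArrow.mk m
  have h1 := h i x a' W (ms M c (le_refl W) s)
  have h2 : TwSh.inert (StMod.Mod.comap (StMod.fibFst π (η i)) M) x
      (TwSh.autOFib π (η i) x (ι.hom (C.a j) a') (hι _ a')) = TwSh.inert M (C.a j) (ι.hom (C.a j) a') :=
    TwSh.inert_comap_fibFst π (η i) M x (ι.hom (C.a j) a') (hι _ a')
  have hband : ms M (band ι (C.a j) a') (by rw [bmap_band]; exact le_rfl) (ms M c (le_refl W) s) =
      resTop (sch 𝒳 (C.a j)) W ((charUnit χ (C.a j) a' ^ d)⁻¹).val • ms M c (le_refl W) s := by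
    refine Eq.trans ?_ h1
    refine Eq.trans ?_ (congrArg (fun t => (Scheme.Modules.Hom.app t W) (ms M c (le_refl W) s)) h2).symm
    refine Eq.trans ?_ (TwSh.inert_app_apply M (C.a j) (ι.hom (C.a j) a') W _).symm
    rw [← sc_self (M.map (ι.hom (C.a j) a').hom.1 (TwSh.bmap_autO (C.a j) (ι.hom (C.a j) a')))]
    exact (ms_of_eq M (band ι (C.a j) a') (bmap_band ι (C.a j) a') (le_refl W) _ _).symm
  have hUU : U ≤ bmap 𝒳 (band ι ξ a) ⁻¹ᵁ U := by rw [bmap_band]; exact le_rfl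
  have h0 : W ≤ bmap 𝒳 (c ≫ band ι ξ a) ⁻¹ᵁ U := by rw [StMod.bmap_comp, bmap_band, Category.comp_id]
  have h1' : W ≤ bmap 𝒳 (band ι (C.a j) a' ≫ c) ⁻¹ᵁ U := by
    rw [StMod.bmap_comp, bmap_band, Category.id_comp]
  have hL : ms M c (le_refl W) ((M.map (band ι ξ a) (bmap_band ι ξ a)).app U s) =
      ms M (band ι (C.a j) a') (by rw [bmap_band]; exact le_rfl) (ms M c (le_refl W) s) := by
    rw [← sc_self (M.map (band ι ξ a) (bmap_band ι ξ a)),
      ms_of_eq M (band ι ξ a) (bmap_band ι ξ a) (le_refl _) hUU]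
    refine (ms_comp M c (band ι ξ a) hUU (le_refl W) h0 s).trans ?_
    refine Eq.trans ?_ (ms_comp M (band ι (C.a j) a') c (le_refl W) _ h1' s).symm
    exact ms_congr M (ι.natural c a).symm h0 h1' s
  show ms M c (le_refl W) ((M.map (band ι ξ a) (bmap_band ι ξ a)).app U s) =
    ms M c (le_refl W) (resTop (sch 𝒳 ξ) U ((charUnit χ ξ a ^ d)⁻¹).val • s)
  rw [hL, hband, ms_smul, appLE_resTop]
  refine congrArg (fun r => resTop (sch 𝒳 (C.a j)) W r • ms M c (le_refl W) s) ?_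
  have hn := ConcreteCategory.congr_hom (χ.naturality (𝒳.p.map c).op) a
  simp only [GrpCat.hom_comp, MonoidHom.comp_apply] at hn
  have h' : charUnit χ (C.a j) a' = Units.map ((bmap 𝒳 c).appTop.hom.toMonoidHom) (charUnit χ ξ a) := hn
  rw [h', ← map_zpow, ← map_inv]
  rfl

end Groth.Agent.TwSh99
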