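import Groth.Agent.TwSh99.Gerbe

/-!
Twisted quasi-coherent modules on a gerbe with a section are the quasi-coherent modules on the base.
-/

set_option autoImplicit false
set_option backward.isDefEq.respectTransparency false
set_option backward.isDefEq.respectTransparency.types false
set_option linter.style.haveILetI false

noncomputable section

universe w₁ v₁ v w u

open CategoryTheory CategoryTheory.Limits AlgebraicGeometry TopologicalSpace Opposite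
open Groth.Agent.QC70

namespace Groth.Agent.TwSh99

open StMod (sch bmap)
open TwSh (resTop charUnit scalarEnd)

theorem appLE_resTop {X Y : Scheme.{u}} (g : Y ⟶ X) {U : X.Opens} {W : Y.Opens} (h : W ≤ g ⁻¹ᵁ U) (r : Γ(X, ⊤)) :
    g.appLE U W h (resTop X U r) = resTop Y W (g.appTop r) := by
  refine (ConcreteCategory.congr_hom (Scheme.Hom.map_appLE g h (homOfLE (le_top : U ≤ ⊤)).op) r).trans ?_
  show (g.appLE ⊤ W _) r = (Y.presheaf.map (homOfLE (le_top : W ≤ ⊤)).op) (g.appTop r)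
  rw [Scheme.Hom.appLE]
  rfl

theorem res_resTop {X : Scheme.{u}} {U V : X.Opens} (h : V ≤ U) (r : Γ(X, ⊤)) :
    resO X h (resTop X U r) = resTop X V r := by
  refine (ConcreteCategory.congr_hom (X.presheaf.map_comp (homOfLE (le_top : U ≤ ⊤)).op (homOfLE h).op).symm r).trans ?_
  rfl

theorem sc_push_map {P Q : Scheme.{u}} {g : Q ⟶ P} {M : P.Modules} {L : Q.Modules}
    (k : M ⟶ (Scheme.Modules.pushforward g).obj L) (φ : L ⟶ L) {U : P.Opens} {W : Q.Opens} (h : W ≤ g ⁻¹ᵁ U)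
    (x : Γ(M, U)) : sc (k ≫ (Scheme.Modules.pushforward g).map φ) h x = φ.app W (sc k h x) := by
  show res L h (φ.app (g ⁻¹ᵁ U) (k.app U x)) = φ.app W (res L h (k.app U x))
  rw [app_res]

theorem cart_push_map {P Q : Scheme.{u}} {g : Q ⟶ P} {M : P.Modules} {L : Q.Modules}
    {k : M ⟶ (Scheme.Modules.pushforward g).obj L} (hk : Cart k) (φ : L ⟶ L) [IsIso φ] :
    Cart (k ≫ (Scheme.Modules.pushforward g).map φ) := by
  haveI : IsIso (adj k) := hk
  show IsIso (adj (k ≫ (Scheme.Modules.pushforward g).map φ))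
  rw [adj, Adjunction.homEquiv_naturality_right_symm]
  exact inferInstanceAs (IsIso (adj k ≫ φ))

theorem isIso_scalarEnd {X : Scheme.{u}} (M : X.Modules) (r : (Γ(X, ⊤))ˣ) : IsIso (scalarEnd M r.val) := by
  refine isIso_of_app_bijective _ fun U => ?_
  have h : ∀ (s t : (Γ(X, ⊤))ˣ) (x : Γ(M, U)), s * t = 1 →
      (scalarEnd M s.val).app U ((scalarEnd M t.val).app U x) = x := fun s t x e => by
    rw [TwSh.scalarEnd_app_apply, TwSh.scalarEnd_app_apply, ← mul_smul, ← map_mul, ← Units.val_mul, e,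
      Units.val_one, map_one, one_smul]
  exact ⟨fun x y e => by
    rw [← h r⁻¹ r x (inv_mul_cancel r), ← h r⁻¹ r y (inv_mul_cancel r), e], fun y => ⟨_, h r r⁻¹ y (mul_inv_cancel r)⟩⟩

section Basic

variable {S : Scheme.{u}} {𝒳 : BasedCategory.{v, w} (Over S)} {A : (Over S)ᵒᵖ ⥤ GrpCat.{u}}
  (χ : A ⟶ TwSh.GmPsh S) (ι : TwSh.BandHom 𝒳 A)

/-- the automorphism given by an element of the band -/
abbrev band (z : 𝒳.obj) (a : A.obj (op (𝒳.p.obj z))) : z ⟶ z := (ι.hom z a).hom.1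

theorem bmap_band (z : 𝒳.obj) (a : A.obj (op (𝒳.p.obj z))) : bmap 𝒳 (band ι z a) = 𝟙 _ :=
  TwSh.bmap_autO z (ι.hom z a)

/-- the unit by which an element of the band acts on a twisted module -/
def tw (z : 𝒳.obj) (a : A.obj (op (𝒳.p.obj z))) : (Γ(sch 𝒳 z, ⊤))ˣ := (charUnit χ z a ^ (1 : ℤ))⁻¹

theorem tw_mul (z : 𝒳.obj) (a b : A.obj (op (𝒳.p.obj z))) : tw χ z (a * b) = tw χ z a * tw χ z b := by
  simp [tw, charUnit, map_mul, mul_comm]

theorem tw_one (z : 𝒳.obj) : tw χ z 1 = 1 := by simp [tw, charUnit]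

theorem appTop_tw {z' z : 𝒳.obj} (c : z' ⟶ z) (a : A.obj (op (𝒳.p.obj z))) :
    (bmap 𝒳 c).appTop (tw χ z a).val = (tw χ z' (A.map (𝒳.p.map c).op a)).val := by
  have h := ConcreteCategory.congr_hom (χ.naturality (𝒳.p.map c).op) a
  simp only [GrpCat.hom_comp, MonoidHom.comp_apply] at h
  have h' : charUnit χ z' (A.map (𝒳.p.map c).op a) =
      Units.map ((bmap 𝒳 c).appTop.hom.toMonoidHom) (charUnit χ z a) := h
  simp only [tw, zpow_one, h', ← map_inv]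
  rfl

variable {χ} {ι}

theorem ms_band {M : StMod.Mod 𝒳} (hM : TwSh.IsTwisted M ι χ 1) (z : 𝒳.obj) (a : A.obj (op (𝒳.p.obj z)))
    {V W : (sch 𝒳 z).Opens} (h : W ≤ bmap 𝒳 (band ι z a) ⁻¹ᵁ V) (h' : W ≤ V) (s : Γ(M.obj z, V)) :
    ms M (band ι z a) h s = resTop (sch 𝒳 z) W (tw χ z a).val • res (M.obj z) h' s := by
  have h2 := hM z a V s
  rw [TwSh.inert_app_apply] at h2
  rw [← ms_of_eq M (band ι z a) (bmap_band ι z a) (h' : W ≤ 𝟙 (sch 𝒳 z) ⁻¹ᵁ V) h s, sc_apply]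
  refine (congrArg (res (M.obj z) h') h2).trans ?_
  rw [res_smul, res_resTop]
  rfl

/-- a decomposition of restriction through an automorphism in the band -/
theorem ms_band_comp {M : StMod.Mod 𝒳} (hM : TwSh.IsTwisted M ι χ 1) {z x : 𝒳.obj}
    (a : A.obj (op (𝒳.p.obj z))) (ψ : z ⟶ x) {c : z ⟶ x} (e : band ι z a ≫ ψ = c) {U : (sch 𝒳 x).Opens}
    {W : (sch 𝒳 z).Opens} (h : W ≤ bmap 𝒳 c ⁻¹ᵁ U) (h' : W ≤ bmap 𝒳 ψ ⁻¹ᵁ U) (s : Γ(M.obj x, U)) :
    ms M c h s = resTop (sch 𝒳 z) W (tw χ z a).val • ms M ψ h' s := by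
  subst e
  have h1 : W ≤ bmap 𝒳 (band ι z a) ⁻¹ᵁ W := by rw [bmap_band]; exact le_rfl
  rw [← ms_comp M (band ι z a) ψ h' h1 h, ms_band hM z a h1 le_rfl, res_self]

end Basic

variable {S : Scheme.{u}} {𝒳 : BasedCategory.{v, w} (Over S)} {α : Type w₁} [Category.{v₁} α] {F : α ⥤ 𝒳.obj}
  {A : (Over S)ᵒᵖ ⥤ GrpCat.{u}} {χ : A ⟶ TwSh.GmPsh S} {ι : TwSh.BandHom 𝒳 A}

variable (F ι) in
/-- the hypotheses: a banded gerbe over a category without automorphisms, and a section -/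
structure SecData where
  π : 𝒳 ⥤ᵇ srcCat 𝒳 F
  fib : FibCat.IsFibGrpd 𝒳.p
  fibSrc : FibCat.IsFibGrpd (F ⋙ 𝒳.p)
  faithful : ∀ ⦃a b : α⦄ (m m' : a ⟶ b), 𝒳.p.map (F.map m) = 𝒳.p.map (F.map m') → m = m'
  gerbe : TwSh.IsBandedGerbe (QuotSh.J Scheme.fppfPrecoverage S) π ι
  e : ∀ a : α, π.obj (F.obj a) ≅ a
  he : ∀ a : α, (srcCat 𝒳 F).p.IsHomLift (𝟙 (𝒳.p.obj (F.obj a))) (e a).hom

/-- what the construction uses: a covering family whose morphisms decompose uniquely through the band -/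
structure DecData (F : α ⥤ 𝒳.obj) (ι : TwSh.BandHom 𝒳 A) where
  fib : FibCat.IsFibGrpd 𝒳.p
  fibSrc : FibCat.IsFibGrpd (F ⋙ 𝒳.p)
  cov : ∀ ξ : 𝒳.obj, Nonempty (Cov (fun a => F.obj a) ξ)
  exists_decomp : ∀ {b a : α} (c : F.obj b ⟶ F.obj a),
    ∃ (t : A.obj (op (𝒳.p.obj (F.obj b)))) (m : b ⟶ a), band ι (F.obj b) t ≫ F.map m = c
  decomp_unique : ∀ {b a : α} {t t' : A.obj (op (𝒳.p.obj (F.obj b)))} {m m' : b ⟶ a},
    band ι (F.obj b) t ≫ F.map m = band ι (F.obj b) t' ≫ F.map m' → t = t' ∧ m = m'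

namespace SecData

variable (D : SecData F ι)
include D

theorem cov (ξ : 𝒳.obj) : Nonempty (Cov (fun a => F.obj a) ξ) := by
  let a₀ : α := D.π.obj ξ
  have hb0 : 𝒳.p.obj (F.obj a₀) = 𝒳.p.obj ξ := D.π.w_obj ξ
  haveI : (srcCat 𝒳 F).p.IsHomLift (𝟙 (𝒳.p.obj ξ)) (D.e a₀).hom := by
    rw [← hb0]; exact D.he a₀
  obtain ⟨R, hR, h⟩ := D.gerbe.1.2 ξ (F.obj a₀) (D.e a₀).inv
    (IsHomLift.lift_id_inv (srcCat 𝒳 F).p (𝒳.p.obj ξ) (D.e a₀))
  obtain ⟨C, -⟩ := exists_cov_of_mem (f := fun a => F.obj a) hR (fun _ _ => True) fun V g hg => by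
    obtain ⟨z, φ, ψ, hφ, hψ, -⟩ := h g hg
    obtain ⟨b, hb, m, hm⟩ := AlgSt88.fg_exists_lift (𝒳 := srcCat 𝒳 F) D.fibSrc (V := V) (x := a₀)
      (g ≫ eqToHom hb0.symm)
    have hzV : 𝒳.p.obj z = V := IsHomLift.domain_eq 𝒳.p g ψ
    obtain ⟨r, hr, hrc⟩ := AlgSt88.fg_exists_fac D.fib ψ (F.map m) (eqToHom (hb.trans hzV.symm)) (by
      rw [IsHomLift.fac' 𝒳.p g ψ]
      refine Eq.trans ?_ hm.symm
      simp)
    refine ⟨b, r ≫ φ, IsHomLift.of_fac' 𝒳.p g (r ≫ φ) hb rfl ?_, trivial⟩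
    rw [Functor.map_comp, hr, IsHomLift.fac' 𝒳.p g φ]
    simp
  exact ⟨C⟩

/-- every morphism between values of the section is, up to the band, the image of a morphism -/
theorem exists_decomp {b a : α} (c : F.obj b ⟶ F.obj a) :
    ∃ (t : A.obj (op (𝒳.p.obj (F.obj b)))) (m : b ⟶ a), band ι (F.obj b) t ≫ F.map m = c := by
  let m : b ⟶ a := (D.e b).inv ≫ D.π.map c ≫ (D.e a).hom
  have hm : 𝒳.p.map (F.map m) = 𝒳.p.map c := by
    haveI := D.he a
    haveI := D.he b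
    show (srcCat 𝒳 F).p.map ((D.e b).inv ≫ D.π.map c ≫ (D.e a).hom) = _
    rw [Functor.map_comp, Functor.map_comp, AlgSt88.p_map_eq D.π c,
      IsHomLift.fac' (srcCat 𝒳 F).p (𝟙 (𝒳.p.obj (F.obj a))) (D.e a).hom,
      IsHomLift.fac' (srcCat 𝒳 F).p (𝟙 (𝒳.p.obj (F.obj b))) (D.e b).inv]
    simp
  obtain ⟨τ, hτ, hτc⟩ := AlgSt88.fg_exists_fac D.fib (F.map m) c (𝟙 _) (by rw [Category.id_comp]; exact hm)
  haveI : IsIso τ := by
    haveI : IsIso (𝒳.p.map τ) := by rw [hτ]; infer_instance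
    exact AlgSt88.fg_isIso_of_isIso_map D.fib τ
  have hl : 𝒳.p.IsHomLift (𝟙 (𝒳.p.obj (F.obj b))) τ :=
    IsHomLift.of_fac' _ _ τ rfl rfl (by rw [hτ]; simp)
  have hl' : 𝒳.p.IsHomLift (𝟙 (𝒳.p.obj (F.obj b))) (inv τ) := by
    refine IsHomLift.of_fac' _ _ (inv τ) rfl rfl ?_
    rw [Functor.map_inv]
    refine IsIso.inv_eq_of_hom_inv_id ?_
    rw [hτ]
    simp
  let σ : Gerb.AutO (F.obj b) :=
    { hom := ⟨τ, hl⟩
      inv := ⟨inv τ, hl'⟩
      hom_inv_id := by apply Functor.Fiber.hom_ext; exact IsIso.hom_inv_id τ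
      inv_hom_id := by apply Functor.Fiber.hom_ext; exact IsIso.inv_hom_id τ }
  have hker : σ ∈ (Gerb.autMap D.π (F.obj b)).ker := by
    rw [MonoidHom.mem_ker]
    apply Aut.ext; apply Functor.Fiber.hom_ext
    refine D.faithful _ (𝟙 _) ?_
    show (srcCat 𝒳 F).p.map (D.π.map τ) = (srcCat 𝒳 F).p.map (𝟙 _)
    rw [AlgSt88.p_map_eq D.π τ, hτ, CategoryTheory.Functor.map_id]
    simp
  rw [← (D.gerbe.2 (F.obj b)).2] at hker
  obtain ⟨t, ht⟩ := hker
  refine ⟨t, m, ?_⟩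
  show (ι.hom (F.obj b) t).hom.1 ≫ F.map m = c
  rw [ht]
  exact hτc

theorem decomp_unique {b a : α} {t t' : A.obj (op (𝒳.p.obj (F.obj b)))} {m m' : b ⟶ a}
    (h : band ι (F.obj b) t ≫ F.map m = band ι (F.obj b) t' ≫ F.map m') : t = t' ∧ m = m' := by
  have hm : m = m' := by
    refine D.faithful m m' ?_
    have := congrArg 𝒳.p.map h
    rwa [Functor.map_comp, Functor.map_comp, TwSh.map_autO_hom, TwSh.map_autO_hom, Category.id_comp,
      Category.id_comp] at this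
  subst hm
  refine ⟨(D.gerbe.2 _).1 (Aut.ext (Functor.Fiber.hom_ext ?_)), rfl⟩
  exact AlgSt88.fg_hom_ext D.fib (F.map m) ((TwSh.map_autO_hom _ _).trans (TwSh.map_autO_hom _ _).symm) h

theorem toDec : DecData F ι :=
  ⟨D.fib, D.fibSrc, D.cov, D.exists_decomp, D.decomp_unique⟩

end SecData

namespace DecData

variable (D : DecData F ι)
include D

theorem exists_hom {G G' : StMod.Mod 𝒳} (hG' : StMod.isQCoh 𝒳 G') (hGt : TwSh.IsTwisted G ι χ 1)
    (hGt' : TwSh.IsTwisted G' ι χ 1)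
    (w : StMod.Mod.comap (srcFun 𝒳 F) G ⟶ StMod.Mod.comap (srcFun 𝒳 F) G') :
    ∃ u : G ⟶ G', StMod.Mod.comapMap (srcFun 𝒳 F) u = w := by
  let w' : rest (fun a => F.obj a) G ⟶ rest (fun a => F.obj a) G' :=
    homOfMs (fun a => w.app a) fun b a c U x => by
      obtain ⟨t, m, e⟩ := D.exists_decomp c.hom
      have h' : bmap 𝒳 c.hom ⁻¹ᵁ U ≤ bmap 𝒳 (F.map m) ⁻¹ᵁ U := by
        rw [← e, StMod.bmap_comp, bmap_band, Category.id_comp]
      refine (congrArg ((w.app b).app _) (ms_band_comp hGt t (F.map m) e le_rfl h' x)).trans ?_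
      refine (Scheme.Modules.Hom.app_smul _ _ _).trans ?_
      refine Eq.trans ?_ (ms_band_comp hGt' t (F.map m) e le_rfl h' ((w.app a).app U x)).symm
      refine congrArg (fun y => resTop (sch 𝒳 (F.obj b)) _ (tw χ (F.obj b) t).val • y) ?_
      refine (congrArg ((w.app b).app _) (ms_comap G m h' x).symm).trans ?_
      exact (ms_hom w m h' x).trans (ms_comap G' m h' _)
  obtain ⟨u, hu⟩ := exists_hom_of_rest D.fib (lifts_obj D.fibSrc) D.cov hG' w'
  exact ⟨u, StMod.Mod.hom_ext fun a => (comap_map_app u a).trans (hu a)⟩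

section Ess

variable {N : StMod.Mod (srcCat 𝒳 F)}

omit D in
theorem bmap_src {b a : α} (c : F.obj b ⟶ F.obj a) {t : A.obj (op (𝒳.p.obj (F.obj b)))} {m : b ⟶ a}
    (e : band ι (F.obj b) t ≫ F.map m = c) : bmap (srcCat 𝒳 F) m = bmap 𝒳 c := by
  rw [← e, StMod.bmap_comp, bmap_band, Category.id_comp]
  rfl

variable (N χ) in
/-- the comparison map of the twisted module along a morphism between values of the section -/
def twMap {b a : α} (c : F.obj b ⟶ F.obj a) : N.obj a ⟶ (Scheme.Modules.pushforward (bmap 𝒳 c)).obj (N.obj b) :=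
  N.map (D.exists_decomp c).choose_spec.choose (bmap_src c (D.exists_decomp c).choose_spec.choose_spec) ≫
    (Scheme.Modules.pushforward (bmap 𝒳 c)).map
      (scalarEnd (N.obj b) (tw χ (F.obj b) (D.exists_decomp c).choose).val)

theorem sc_twMap {b a : α} (c : F.obj b ⟶ F.obj a) {t : A.obj (op (𝒳.p.obj (F.obj b)))} {m : b ⟶ a}
    (e : band ι (F.obj b) t ≫ F.map m = c) {U : (sch 𝒳 (F.obj a)).Opens} {W : (sch 𝒳 (F.obj b)).Opens}
    (h : W ≤ bmap 𝒳 c ⁻¹ᵁ U) (h' : W ≤ bmap (srcCat 𝒳 F) m ⁻¹ᵁ U) (x : Γ(N.obj a, U)) :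
    sc (D.twMap χ N c) h x = resTop (sch 𝒳 (F.obj b)) W (tw χ (F.obj b) t).val • ms N m h' x := by
  obtain ⟨ht, hm⟩ := D.decomp_unique ((D.exists_decomp c).choose_spec.choose_spec.trans e.symm)
  have key : ∀ (t₀ : A.obj (op (𝒳.p.obj (F.obj b)))) (m₀ : b ⟶ a) (hg : bmap (srcCat 𝒳 F) m₀ = bmap 𝒳 c),
      t₀ = t → m₀ = m →
      (scalarEnd (N.obj b) (tw χ (F.obj b) t₀).val).app W (sc (N.map m₀ hg) h x) =
        resTop (sch 𝒳 (F.obj b)) W (tw χ (F.obj b) t).val • ms N m h' x := by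
    intro t₀ m₀ hg et em
    subst et em
    rw [ms_of_eq N m₀ hg h h']
    exact TwSh.scalarEnd_app_apply _ _ _ _
  exact (sc_push_map _ _ h x).trans (key _ _ _ ht hm)

theorem exists_comap_iso (hN : StMod.isQCoh (srcCat 𝒳 F) N) :
    ∃ G : StMod.Mod 𝒳, StMod.isQCoh 𝒳 G ∧ TwSh.IsTwisted G ι χ 1 ∧
      Nonempty (StMod.Mod.comap (srcFun 𝒳 F) G ≅ N) := by
  have hone : ∀ a : α, band ι (F.obj a) 1 ≫ F.map (𝟙 a) = 𝟙 (F.obj a) := fun a => by
    rw [band, map_one, F.map_id]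
    exact Category.comp_id _
  let Mb : StMod.Mod (Ind 𝒳 (fun a => F.obj a)) := mkMod (fun a => N.obj a) (fun {b a} c => D.twMap χ N c.hom)
    (fun (a : α) U W h h' x => by
      have h1 : W ≤ bmap (srcCat 𝒳 F) (𝟙 a) ⁻¹ᵁ U := by rw [StMod.bmap_id]; exact h'
      refine (D.sc_twMap (𝟙 (F.obj a)) (hone a) h h1 x).trans ?_
      rw [tw_one, Units.val_one, map_one, one_smul]
      exact ms_id N h1 h' x)
    (fun {b' b a : α} c' c U W hW hW' x => by
      obtain ⟨t', m', e'⟩ := D.exists_decomp c'.hom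
      obtain ⟨t, m, e⟩ := D.exists_decomp c.hom
      let t₁ : A.obj (op (𝒳.p.obj (F.obj b'))) := A.map (𝒳.p.map (F.map m')).op t
      have hcomp : band ι (F.obj b') (t₁ * t') ≫ F.map (m' ≫ m) = (c' ≫ c).hom := by
        rw [band, map_mul, F.map_comp]
        show ((ι.hom (F.obj b') t').hom.1 ≫ (ι.hom (F.obj b') t₁).hom.1) ≫ F.map m' ≫ F.map m = _
        rw [InducedCategory.comp_hom, ← e, ← e', Category.assoc, Category.assoc,
          ← Category.assoc (ι.hom (F.obj b') t₁).hom.1, ι.natural (F.map m') t, Category.assoc]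
      have w1 : bmap 𝒳 c.hom ⁻¹ᵁ U ≤ bmap (srcCat 𝒳 F) m ⁻¹ᵁ U := le_of_eq (by rw [bmap_src c.hom e])
      have w2 : W ≤ bmap (srcCat 𝒳 F) m' ⁻¹ᵁ (bmap 𝒳 c.hom ⁻¹ᵁ U) := by rw [bmap_src c'.hom e']; exact hW
      have w3 : W ≤ bmap (srcCat 𝒳 F) (m' ≫ m) ⁻¹ᵁ U := by rw [bmap_src (c' ≫ c).hom hcomp]; exact hW'
      refine (D.sc_twMap c'.hom e' hW w2 _).trans ?_
      refine Eq.trans ?_ (D.sc_twMap (c' ≫ c).hom hcomp hW' w3 x).symm
      refine (congrArg (fun y => resTop (sch (srcCat 𝒳 F) b') W (tw χ (F.obj b') t').val • y)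
        ((congrArg (ms N m' w2) (D.sc_twMap c.hom e le_rfl w1 x)).trans
          ((ms_smul N m' w2 _ _).trans (congrArg _ (ms_comp N m' m w1 w2 w3 x))))).trans ?_
      refine (smul_smul _ _ _).trans (congrArg (fun r => r • ms N (m' ≫ m) w3 x) ?_)
      rw [tw_mul, Units.val_mul, map_mul, mul_comm]
      refine congrArg (· * _) ?_
      refine (appLE_resTop _ _ _).trans (congrArg (resTop (sch 𝒳 (F.obj b')) W) ?_)
      exact appTop_tw χ (F.map m') t)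
  have hMb : StMod.isQCoh (Ind 𝒳 (fun a => F.obj a)) Mb := by
    refine ⟨fun b a c g hg => ?_, fun a => hN.2 a⟩
    subst hg
    haveI := isIso_scalarEnd (N.obj b) (tw χ (F.obj b) (D.exists_decomp c.hom).choose)
    exact cart_push_map (hN.1 _ _) _
  obtain ⟨G, hG, ⟨i⟩⟩ := exists_extension D.fib (lifts_obj D.fibSrc) D.cov hMb
  have hiG : ∀ {b a : α} (c : F.obj b ⟶ F.obj a) {t : A.obj (op (𝒳.p.obj (F.obj b)))} {m : b ⟶ a}
      (_ : band ι (F.obj b) t ≫ F.map m = c) (U : (sch 𝒳 (F.obj a)).Opens) (W : (sch 𝒳 (F.obj b)).Opens)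
      (h : W ≤ bmap 𝒳 c ⁻¹ᵁ U) (h' : W ≤ bmap (srcCat 𝒳 F) m ⁻¹ᵁ U) (x : Γ(G.obj (F.obj a), U)),
      (i.hom.app b).app W (ms G c h x) =
        resTop (sch 𝒳 (F.obj b)) W (tw χ (F.obj b) t).val • ms N m h' ((i.hom.app a).app U x) := by
    intro b a c t m e U W h h' x
    refine (ms_hom (𝒴 := (Ind 𝒳 (fun a => F.obj a))) i.hom (ξ' := b) (ξ := a) (InducedCategory.homMk c) h x).trans ?_
    exact D.sc_twMap c e h h' _
  refine ⟨G, hG, fun ξ a U s => ?_, ⟨?_⟩⟩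
  · obtain ⟨C⟩ := D.cov ξ
    rw [TwSh.inert_app_apply]
    refine (bridge (fun a => F.obj a) hG ξ).ext C _ _ fun j => ?_
    let c := C.h j
    let W := bmap 𝒳 c ⁻¹ᵁ U
    let a' : A.obj (op (𝒳.p.obj (F.obj (C.a j)))) := A.map (𝒳.p.map c).op a
    have hL : ms G c (le_refl W) ((G.map (band ι ξ a) (bmap_band ι ξ a)).app U s) =
        ms G (band ι (F.obj (C.a j)) a') (by rw [bmap_band]; exact le_rfl) (ms G c (le_refl W) s) := by
      have hUU : U ≤ bmap 𝒳 (band ι ξ a) ⁻¹ᵁ U := by rw [bmap_band]; exact le_rfl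
      have h0 : W ≤ bmap 𝒳 (c ≫ band ι ξ a) ⁻¹ᵁ U := by rw [StMod.bmap_comp, bmap_band, Category.comp_id]
      have h1 : W ≤ bmap 𝒳 (band ι (F.obj (C.a j)) a' ≫ c) ⁻¹ᵁ U := by
        rw [StMod.bmap_comp, bmap_band, Category.id_comp]
      rw [← sc_self (G.map (band ι ξ a) (bmap_band ι ξ a)),
        ms_of_eq G (band ι ξ a) (bmap_band ι ξ a) (le_refl _) hUU]
      refine (ms_comp G c (band ι ξ a) hUU (le_refl W) h0 s).trans ?_
      refine Eq.trans ?_ (ms_comp G (band ι (F.obj (C.a j)) a') c (le_refl W) _ h1 s).symm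
      exact ms_congr G (ι.natural c a).symm h0 h1 s
    show ms G c (le_refl W) ((G.map (band ι ξ a) (bmap_band ι ξ a)).app U s) =
      ms G c (le_refl W) (resTop (sch 𝒳 ξ) U (tw χ ξ a).val • s)
    rw [hL, ms_smul, appLE_resTop, appTop_tw χ c a]
    haveI : IsIso (i.hom.app (C.a j)) := ⟨i.inv.app (C.a j), by
      rw [← StMod.Mod.comp_app, i.hom_inv_id, StMod.Mod.id_app], by
      rw [← StMod.Mod.comp_app, i.inv_hom_id, StMod.Mod.id_app]⟩
    refine app_injective_of_mono (i.hom.app (C.a j)) W ?_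
    have hb : band ι (F.obj (C.a j)) a' ≫ F.map (𝟙 (C.a j)) = band ι (F.obj (C.a j)) a' := by
      rw [F.map_id]; exact Category.comp_id _
    have hW1 : W ≤ bmap (srcCat 𝒳 F) (𝟙 (C.a j)) ⁻¹ᵁ W := (le_id (𝒴 := srcCat 𝒳 F) W).ge
    refine (hiG _ hb W W _ hW1 _).trans ?_
    rw [ms_id N hW1 le_rfl, res_self]
    exact (Scheme.Modules.Hom.app_smul _ _ _).symm
  · let u : StMod.Mod.comap (srcFun 𝒳 F) G ⟶ N := homOfMs (fun a => i.hom.app a) fun b a m U x => by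
      refine (congrArg ((i.hom.app b).app _) (ms_comap G m le_rfl x)).trans ?_
      have e : band ι (F.obj b) 1 ≫ F.map m = F.map m := by
        rw [band, map_one]
        exact Category.id_comp _
      refine (hiG _ e U _ (le_refl (bmap 𝒳 (F.map m) ⁻¹ᵁ U)) le_rfl x).trans ?_
      rw [tw_one, Units.val_one, map_one]
      exact one_smul _ _
    exact StMod.Mod.isoMk (F := StMod.Mod.comap (srcFun 𝒳 F) G) (G := N) (fun a => isoAt i a)
      fun b a m g hg => u.comm m hg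

end Ess

end DecData

end Groth.Agent.TwSh99
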