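import Groth.Agent.TwSh99.Sec
import Groth.Agent.AlgSt88.Fibred
import Groth.Prelude.Def_StMod

/-!
Modules on categories over schemes, on sections; covers by objects of a family and descent of sections.
-/

set_option autoImplicit false
set_option backward.isDefEq.respectTransparency false
set_option backward.isDefEq.respectTransparency.types false
set_option linter.style.haveILetI false

noncomputable section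

universe w₁ v w u

open CategoryTheory CategoryTheory.Limits AlgebraicGeometry TopologicalSpace Opposite
open Groth.Agent.QC70

namespace Groth.Agent.TwSh99

variable {S : Scheme.{u}} {𝒴 : BasedCategory.{v, w} (Over S)}

open StMod (sch bmap)

theorem le_comp {ξ'' ξ' ξ : 𝒴.obj} (ψ : ξ'' ⟶ ξ') (φ : ξ' ⟶ ξ) (U : (sch 𝒴 ξ).Opens) :
    bmap 𝒴 (ψ ≫ φ) ⁻¹ᵁ U = bmap 𝒴 ψ ⁻¹ᵁ (bmap 𝒴 φ ⁻¹ᵁ U) := by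
  rw [StMod.bmap_comp]; rfl

section MS

variable (N : StMod.Mod 𝒴)

/-- restriction of sections along a morphism -/
def ms {ξ' ξ : 𝒴.obj} (φ : ξ' ⟶ ξ) {U : (sch 𝒴 ξ).Opens} {W : (sch 𝒴 ξ').Opens}
    (h : W ≤ bmap 𝒴 φ ⁻¹ᵁ U) : Γ(N.obj ξ, U) →+ Γ(N.obj ξ', W) :=
  sc (N.map φ rfl) h

variable {ξ'' ξ' ξ : 𝒴.obj}

theorem ms_of_eq (φ : ξ' ⟶ ξ) {g : sch 𝒴 ξ' ⟶ sch 𝒴 ξ} (hg : bmap 𝒴 φ = g) {U : (sch 𝒴 ξ).Opens}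
    {W : (sch 𝒴 ξ').Opens} (h : W ≤ g ⁻¹ᵁ U) (h' : W ≤ bmap 𝒴 φ ⁻¹ᵁ U) (x : Γ(N.obj ξ, U)) :
    sc (N.map φ hg) h x = ms N φ h' x := by
  subst hg; rfl

theorem ms_congr {φ φ' : ξ' ⟶ ξ} (e : φ = φ') {U : (sch 𝒴 ξ).Opens} {W : (sch 𝒴 ξ').Opens}
    (h : W ≤ bmap 𝒴 φ ⁻¹ᵁ U) (h' : W ≤ bmap 𝒴 φ' ⁻¹ᵁ U) (x : Γ(N.obj ξ, U)) :
    ms N φ h x = ms N φ' h' x := by
  subst e; rfl

theorem ms_id {U W : (sch 𝒴 ξ).Opens} (h : W ≤ bmap 𝒴 (𝟙 ξ) ⁻¹ᵁ U) (h' : W ≤ U) (x : Γ(N.obj ξ, U)) :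
    ms N (𝟙 ξ) h x = res (N.obj ξ) h' x := by
  rw [← ms_of_eq N (𝟙 ξ) (StMod.bmap_id ξ) (h' : W ≤ 𝟙 (sch 𝒴 ξ) ⁻¹ᵁ U) h x, sc_apply,
    StMod.Mod.map_id_app]
  rfl

theorem res_ms (φ : ξ' ⟶ ξ) {U : (sch 𝒴 ξ).Opens} {W W' : (sch 𝒴 ξ').Opens} (h : W ≤ bmap 𝒴 φ ⁻¹ᵁ U)
    (h' : W' ≤ bmap 𝒴 φ ⁻¹ᵁ U) (hW : W' ≤ W) (x : Γ(N.obj ξ, U)) :
    res (N.obj ξ') hW (ms N φ h x) = ms N φ h' x := res_sc _ _ _ _ _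

theorem ms_res (φ : ξ' ⟶ ξ) {U U' : (sch 𝒴 ξ).Opens} {W : (sch 𝒴 ξ').Opens} (h' : W ≤ bmap 𝒴 φ ⁻¹ᵁ U')
    (h : W ≤ bmap 𝒴 φ ⁻¹ᵁ U) (hU : U' ≤ U) (x : Γ(N.obj ξ, U)) :
    ms N φ h' (res (N.obj ξ) hU x) = ms N φ h x :=
  (sc_res _ h h' hU (le_refl W) x).trans (res_self _)

theorem ms_comp (ψ : ξ'' ⟶ ξ') (φ : ξ' ⟶ ξ) {U : (sch 𝒴 ξ).Opens} {V : (sch 𝒴 ξ').Opens}
    {W : (sch 𝒴 ξ'').Opens} (hV : V ≤ bmap 𝒴 φ ⁻¹ᵁ U) (hW : W ≤ bmap 𝒴 ψ ⁻¹ᵁ V)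
    (hW' : W ≤ bmap 𝒴 (ψ ≫ φ) ⁻¹ᵁ U) (x : Γ(N.obj ξ, U)) :
    ms N ψ hW (ms N φ hV x) = ms N (ψ ≫ φ) hW' x := by
  have h1 : W ≤ bmap 𝒴 ψ ⁻¹ᵁ (bmap 𝒴 φ ⁻¹ᵁ U) := hW.trans ((bmap 𝒴 ψ).preimage_mono hV)
  rw [← ms_of_eq N (ψ ≫ φ) (StMod.bmap_comp ψ φ) (h1 : W ≤ (bmap 𝒴 ψ ≫ bmap 𝒴 φ) ⁻¹ᵁ U) hW' x, sc_apply,
    StMod.Mod.map_comp_app N ψ φ rfl rfl U, ConcreteCategory.comp_apply, ← sc_self (N.map φ rfl)]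
  refine Eq.trans ?_ (congrArg (fun t => res (N.obj ξ'') (h1) t) (sc_self (N.map ψ rfl) _))
  refine Eq.trans ?_ (res_ms N ψ (le_refl (bmap 𝒴 ψ ⁻¹ᵁ (bmap 𝒴 φ ⁻¹ᵁ U))) h1 h1 (ms N φ le_rfl x)).symm
  exact (congrArg (ms N ψ hW) (res_ms N φ le_rfl hV hV x).symm).trans (ms_res N ψ hW h1 hV _)

theorem ms_smul (φ : ξ' ⟶ ξ) {U : (sch 𝒴 ξ).Opens} {W : (sch 𝒴 ξ').Opens} (h : W ≤ bmap 𝒴 φ ⁻¹ᵁ U)
    (r : Γ(sch 𝒴 ξ, U)) (x : Γ(N.obj ξ, U)) :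
    ms N φ h (r • x) = (bmap 𝒴 φ).appLE U W h r • ms N φ h x := sc_smul _ _ _ _

theorem ms_hom {N G : StMod.Mod 𝒴} (u : N ⟶ G) (φ : ξ' ⟶ ξ) {U : (sch 𝒴 ξ).Opens} {W : (sch 𝒴 ξ').Opens}
    (h : W ≤ bmap 𝒴 φ ⁻¹ᵁ U) (x : Γ(N.obj ξ, U)) :
    (u.app ξ').app W (ms N φ h x) = ms G φ h ((u.app ξ).app U x) := by
  show (u.app ξ').app W (res _ h ((N.map φ rfl).app U x)) = res _ h ((G.map φ rfl).app U ((u.app ξ).app U x))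
  rw [app_res]
  exact congrArg _ congr(Scheme.Modules.Hom.app $(u.comm φ rfl) U x)

theorem cart_map {N : StMod.Mod 𝒴} (hN : N.IsCartesian) (φ : ξ' ⟶ ξ) {g : sch 𝒴 ξ' ⟶ sch 𝒴 ξ}
    (hg : bmap 𝒴 φ = g) : Cart (N.map φ hg) := hN φ hg

end MS

/-- A morphism of modules on a category from morphisms compatible with restriction of sections. -/
def homOfMs {N G : StMod.Mod 𝒴} (a : ∀ ξ, N.obj ξ ⟶ G.obj ξ)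
    (h : ∀ ⦃ξ' ξ : 𝒴.obj⦄ (φ : ξ' ⟶ ξ) (U : (sch 𝒴 ξ).Opens) (x : Γ(N.obj ξ, U)),
      (a ξ').app _ (ms N φ (le_refl (bmap 𝒴 φ ⁻¹ᵁ U)) x) = ms G φ le_rfl ((a ξ).app U x)) : N ⟶ G where
  app := a
  comm {ξ' ξ} φ g hg := by
    subst hg
    refine Scheme.Modules.hom_ext _ _ fun U => ?_
    ext x
    have := h φ U x
    rw [ms, ms, sc_self, sc_self] at this
    exact this

section MkMod

variable (obj : ∀ ξ : 𝒴.obj, (sch 𝒴 ξ).Modules)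
  (m : ∀ {ξ' ξ : 𝒴.obj} (φ : ξ' ⟶ ξ), obj ξ ⟶ (Scheme.Modules.pushforward (bmap 𝒴 φ)).obj (obj ξ'))
  (hid : ∀ (ξ : 𝒴.obj) (U W : (sch 𝒴 ξ).Opens) (h : W ≤ bmap 𝒴 (𝟙 ξ) ⁻¹ᵁ U) (h' : W ≤ U) (x : Γ(obj ξ, U)),
    sc (m (𝟙 ξ)) h x = res (obj ξ) h' x)
  (hcomp : ∀ {ξ'' ξ' ξ : 𝒴.obj} (ψ : ξ'' ⟶ ξ') (φ : ξ' ⟶ ξ) (U : (sch 𝒴 ξ).Opens)
    (W : (sch 𝒴 ξ'').Opens) (hW : W ≤ bmap 𝒴 ψ ⁻¹ᵁ (bmap 𝒴 φ ⁻¹ᵁ U)) (hW' : W ≤ bmap 𝒴 (ψ ≫ φ) ⁻¹ᵁ U)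
    (x : Γ(obj ξ, U)), sc (m ψ) hW (sc (m φ) le_rfl x) = sc (m (ψ ≫ φ)) hW' x)

/-- auxiliary: the comparison map under any name of the morphism of schemes -/
def mkMap {ξ' ξ : 𝒴.obj} (φ : ξ' ⟶ ξ) {g : sch 𝒴 ξ' ⟶ sch 𝒴 ξ} (hg : bmap 𝒴 φ = g) :
    obj ξ ⟶ (Scheme.Modules.pushforward g).obj (obj ξ') := by
  subst hg; exact m φ

theorem mkMap_app {ξ' ξ : 𝒴.obj} (φ : ξ' ⟶ ξ) {g : sch 𝒴 ξ' ⟶ sch 𝒴 ξ} (hg : bmap 𝒴 φ = g)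
    (U : (sch 𝒴 ξ).Opens) (x : Γ(obj ξ, U)) (h : g ⁻¹ᵁ U ≤ bmap 𝒴 φ ⁻¹ᵁ U) :
    (mkMap obj m φ hg).app U x = sc (m φ) h x := by
  subst hg; exact (sc_self _ _).symm

include hid in
theorem mkMap_id (ξ : 𝒴.obj) :
    mkMap obj m (𝟙 ξ) (StMod.bmap_id ξ) ≫ (Scheme.Modules.pushforwardId (sch 𝒴 ξ)).hom.app (obj ξ) = 𝟙 (obj ξ) := by
  refine Scheme.Modules.hom_ext _ _ fun U => ?_
  ext x
  have h : 𝟙 (sch 𝒴 ξ) ⁻¹ᵁ U ≤ bmap 𝒴 (𝟙 ξ) ⁻¹ᵁ U := le_of_eq (by rw [StMod.bmap_id])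
  exact (mkMap_app obj m (𝟙 ξ) (StMod.bmap_id ξ) U x h).trans ((hid ξ U U h (le_refl U) x).trans (res_self x))

include hcomp in
theorem mkMap_comp {ξ'' ξ' ξ : 𝒴.obj} (ψ : ξ'' ⟶ ξ') (φ : ξ' ⟶ ξ) {h : sch 𝒴 ξ'' ⟶ sch 𝒴 ξ'}
    {g : sch 𝒴 ξ' ⟶ sch 𝒴 ξ} (hh : bmap 𝒴 ψ = h) (hg : bmap 𝒴 φ = g)
    (e : bmap 𝒴 (ψ ≫ φ) = h ≫ g) :
    mkMap obj m (ψ ≫ φ) e = mkMap obj m φ hg ≫ (Scheme.Modules.pushforward g).map (mkMap obj m ψ hh) ≫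
      (Scheme.Modules.pushforwardComp h g).hom.app (obj ξ'') := by
  subst hh; subst hg
  refine Scheme.Modules.hom_ext _ _ fun U => ?_
  ext x
  have h1 : (bmap 𝒴 ψ ≫ bmap 𝒴 φ) ⁻¹ᵁ U ≤ bmap 𝒴 (ψ ≫ φ) ⁻¹ᵁ U := le_of_eq (le_comp ψ φ U).symm
  refine (mkMap_app obj m (ψ ≫ φ) e U x h1).trans ?_
  refine (hcomp ψ φ U _ (le_refl (bmap 𝒴 ψ ⁻¹ᵁ (bmap 𝒴 φ ⁻¹ᵁ U))) h1 x).symm.trans ?_
  rw [sc_self, sc_self]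
  rfl

/-- A module on a category from comparison maps satisfying the laws on sections. -/
def mkMod : StMod.Mod 𝒴 where
  obj := obj
  map φ _ hg := mkMap obj m φ hg
  map_id ξ := mkMap_id obj m hid ξ
  map_comp ψ φ _ _ hh hg := mkMap_comp obj m hcomp ψ φ hh hg _

theorem ms_mkMod {ξ' ξ : 𝒴.obj} (φ : ξ' ⟶ ξ) {U : (sch 𝒴 ξ).Opens} {W : (sch 𝒴 ξ').Opens}
    (h : W ≤ bmap 𝒴 φ ⁻¹ᵁ U) (x : Γ(obj ξ, U)) :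
    ms (mkMod obj m hid hcomp) φ h x = sc (m φ) h x := rfl

end MkMod

section Fib

theorem exists_fac_sch (h𝒴 : FibCat.IsFibGrpd 𝒴.p) {z y x : 𝒴.obj} (φ : y ⟶ x) (ψ : z ⟶ x)
    (g : sch 𝒴 z ⟶ sch 𝒴 y) (hg : g ≫ bmap 𝒴 φ = bmap 𝒴 ψ) :
    ∃ χ : z ⟶ y, bmap 𝒴 χ = g ∧ χ ≫ φ = ψ := by
  have hw : g ≫ (𝒴.p.obj y).hom = (𝒴.p.obj z).hom := by
    rw [← Over.w (𝒴.p.map φ), ← Category.assoc]
    exact (congrArg (· ≫ (𝒴.p.obj x).hom) hg).trans (Over.w (𝒴.p.map ψ))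
  obtain ⟨χ, h1, h2⟩ := AlgSt88.fg_exists_fac h𝒴 φ ψ (Over.homMk g hw)
    (Over.OverMorphism.ext (by exact hg))
  exact ⟨χ, by rw [bmap, h1]; rfl, h2⟩

theorem hom_ext_sch (h𝒴 : FibCat.IsFibGrpd 𝒴.p) {z y x : 𝒴.obj} {a b : z ⟶ y} (φ : y ⟶ x)
    (hb : bmap 𝒴 a = bmap 𝒴 b) (hc : a ≫ φ = b ≫ φ) : a = b :=
  AlgSt88.fg_hom_ext h𝒴 φ (Over.OverMorphism.ext hb) hc

end Fib

variable {α : Type w₁} (f : α → 𝒴.obj)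

/-- lifts of morphisms of schemes to the objects of the family -/
def Lifts : Prop :=
  ∀ (a : α) (T : Scheme.{u}) (s : T ⟶ sch 𝒴 (f a)),
    ∃ (a' : α) (φ : f a' ⟶ f a) (r : sch 𝒴 (f a') ⟶ T), IsIso r ∧ bmap 𝒴 φ = r ≫ s

/-- a covering of an object by objects of the family -/
structure Cov (η : 𝒴.obj) where
  ι : Type u
  a : ι → α
  h : ∀ i, f (a i) ⟶ η
  flat : ∀ i, Flat (bmap 𝒴 (h i))
  lfp : ∀ i, LocallyOfFinitePresentation (bmap 𝒴 (h i))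
  surj : ∀ x : sch 𝒴 η, ∃ i y, bmap 𝒴 (h i) y = x

variable {f}

theorem Cov.qcc {η : 𝒴.obj} (C : Cov f η) :
    QuasiCompactCover (⟨C.ι, fun i => sch 𝒴 (f (C.a i)), fun i => bmap 𝒴 (C.h i)⟩ :
      PreZeroHypercover.{u} (sch 𝒴 η)) :=
  QuasiCompactCover.of_isOpenMap
    (𝒰 := Scheme.Cover.mkOfCovers (P := @Flat) _ (fun i => sch 𝒴 (f (C.a i))) (fun i => bmap 𝒴 (C.h i)) C.surj C.flat)
    fun i => by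
      haveI := C.flat i; haveI := C.lfp i
      exact (bmap 𝒴 (C.h i)).isOpenMap

/-- covers pull back -/
theorem Cov.exists_pb (h𝒴 : FibCat.IsFibGrpd 𝒴.p) (hl : Lifts f) {η ξ : 𝒴.obj} (C : Cov f η) (c : ξ ⟶ η) :
    ∃ C' : Cov f ξ, ∀ j, ∃ (i : C.ι) (δ : f (C'.a j) ⟶ f (C.a i)), δ ≫ C.h i = C'.h j ≫ c := by
  choose a' φ r hr hφ using fun i => hl (C.a i) (pullback (bmap 𝒴 c) (bmap 𝒴 (C.h i)))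
    (pullback.snd (bmap 𝒴 c) (bmap 𝒴 (C.h i)))
  choose γ hγ hγc using fun i => exists_fac_sch h𝒴 c (φ i ≫ C.h i)
    (r i ≫ pullback.fst (bmap 𝒴 c) (bmap 𝒴 (C.h i)))
    (by rw [StMod.bmap_comp, hφ i, Category.assoc, Category.assoc, pullback.condition])
  refine ⟨⟨C.ι, a', γ, fun i => ?_, fun i => ?_, fun x => ?_⟩, fun j => ⟨j, φ j, (hγc j).symm⟩⟩
  · haveI := hr i; haveI := C.flat i
    rw [hγ i]; infer_instance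
  · haveI := hr i; haveI := C.lfp i
    rw [hγ i]; infer_instance
  · obtain ⟨i, y, hy⟩ := C.surj (bmap 𝒴 c x)
    obtain ⟨p, hp, -⟩ := Scheme.Pullback.exists_preimage_pullback (f := bmap 𝒴 c) (g := bmap 𝒴 (C.h i)) x y hy.symm
    haveI := hr i
    obtain ⟨z, rfl⟩ := (r i).surjective p
    exact ⟨i, z, by rw [hγ i]; exact hp⟩

variable (𝒴 f) in
/-- the category of the family with all morphisms between its values -/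
abbrev Ind : BasedCategory.{v, w₁} (Over S) where
  obj := InducedCategory 𝒴.obj f
  p := inducedFunctor f ⋙ 𝒴.p

/-- a module on the scheme under an object, compared with a module on the family -/
structure Bridge (N : StMod.Mod (Ind 𝒴 f)) (η : 𝒴.obj) where
  M : (sch 𝒴 η).Modules
  qc : M.IsQuasicoherent
  κ : ∀ (a : α) (c : f a ⟶ η), M ⟶ (Scheme.Modules.pushforward (bmap 𝒴 c)).obj (N.obj a)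
  cart : ∀ (a : α) (c : f a ⟶ η), Cart (κ a c)
  comp : ∀ {a' a : α} (m : f a' ⟶ f a) (c : f a ⟶ η) (c' : f a' ⟶ η) (_ : m ≫ c = c') (U : (sch 𝒴 η).Opens)
    (V : (sch 𝒴 (f a)).Opens) (W : (sch 𝒴 (f a')).Opens) (hV : V ≤ bmap 𝒴 c ⁻¹ᵁ U) (hW : W ≤ bmap 𝒴 m ⁻¹ᵁ V)
    (hW' : W ≤ bmap 𝒴 c' ⁻¹ᵁ U) (x : Γ(M, U)),
    ms N (ξ' := a') (ξ := a) (InducedCategory.homMk m) hW (sc (κ a c) hV x) = sc (κ a' c') hW' x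

variable {N : StMod.Mod (Ind 𝒴 f)} {η : 𝒴.obj}

theorem Bridge.ext (B : Bridge N η) (C : Cov f η) {U : (sch 𝒴 η).Opens} (n n' : Γ(B.M, U))
    (h : ∀ i, sc (B.κ (C.a i) (C.h i)) (le_refl (bmap 𝒴 (C.h i) ⁻¹ᵁ U)) n =
      sc (B.κ (C.a i) (C.h i)) (le_refl (bmap 𝒴 (C.h i) ⁻¹ᵁ U)) n') : n = n' := by
  haveI : ∀ i, Flat (bmap 𝒴 (C.h i)) := C.flat
  exact sc_ext (fun i => bmap 𝒴 (C.h i)) (fun i => B.κ (C.a i) (C.h i)) (fun i => B.cart _ _)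
    (fun x _ => C.surj x) n n' h

/-- Sections are glued from compatible families on the objects of a sieve containing a covering. -/
theorem Bridge.existsUnique_glue (B : Bridge N η) (h𝒴 : FibCat.IsFibGrpd 𝒴.p) (hN : N.IsCartesian)
    (hl : Lifts f) (C : Cov f η) (R : ∀ a, (f a ⟶ η) → Prop)
    (hR : ∀ {a' a : α} (m : f a' ⟶ f a) (c : f a ⟶ η), R a c → R a' (m ≫ c)) (hC : ∀ i, R (C.a i) (C.h i))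
    {U : (sch 𝒴 η).Opens} (s : ∀ (a : α) (c : f a ⟶ η), R a c → Γ(N.obj a, bmap 𝒴 c ⁻¹ᵁ U))
    (hs : ∀ {a' a : α} (m : f a' ⟶ f a) (c : f a ⟶ η) (hc : R a c) (c' : f a' ⟶ η) (hc' : R a' c')
      (_ : m ≫ c = c') (W : (sch 𝒴 (f a')).Opens) (hW : W ≤ bmap 𝒴 m ⁻¹ᵁ (bmap 𝒴 c ⁻¹ᵁ U))
      (hW' : W ≤ bmap 𝒴 c' ⁻¹ᵁ U),
      ms N (ξ' := a') (ξ := a) (InducedCategory.homMk m) hW (s a c hc) = res (N.obj a') hW' (s a' c' hc')) :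
    ∃! n : Γ(B.M, U), ∀ a c (hc : R a c), sc (B.κ a c) (le_refl (bmap 𝒴 c ⁻¹ᵁ U)) n = s a c hc := by
  haveI := B.qc
  haveI := C.qcc
  haveI : ∀ i, Flat (bmap 𝒴 (C.h i)) := C.flat
  obtain ⟨n, hn, -⟩ := existsUnique_sc (fun i => bmap 𝒴 (C.h i)) (fun i => B.κ (C.a i) (C.h i))
    (fun i => B.cart _ _) U (fun i => s _ _ (hC i)) fun i j T a b e => by
      obtain ⟨a', φ, r, hr, hφ⟩ := hl (C.a i) T a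
      obtain ⟨ψ, hψ, hψc⟩ := exists_fac_sch h𝒴 (C.h j) (φ ≫ C.h i) (r ≫ b) (by
        rw [StMod.bmap_comp, hφ, Category.assoc, Category.assoc, e])
      refine ⟨sch 𝒴 (f a'), r, inferInstance, inferInstance, N.obj a',
        N.map (ξ' := a') (ξ := C.a i) (InducedCategory.homMk φ) hφ,
        N.map (ξ' := a') (ξ := C.a j) (InducedCategory.homMk ψ) hψ, hN _ _, fun V x W wa wb => ?_, fun W wa wb => ?_⟩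
      · have w₁ : W ≤ bmap 𝒴 φ ⁻¹ᵁ (bmap 𝒴 (C.h i) ⁻¹ᵁ V) := by rw [hφ]; exact wa
        have w₂ : W ≤ bmap 𝒴 ψ ⁻¹ᵁ (bmap 𝒴 (C.h j) ⁻¹ᵁ V) := by rw [hψ]; exact wb
        have w₃ : W ≤ bmap 𝒴 (φ ≫ C.h i) ⁻¹ᵁ V := by rw [le_comp]; exact w₁
        rw [ms_of_eq N (ξ' := a') (ξ := C.a i) (InducedCategory.homMk φ) hφ wa w₁,
          ms_of_eq N (ξ' := a') (ξ := C.a j) (InducedCategory.homMk ψ) hψ wb w₂,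
          B.comp φ (C.h i) _ rfl V _ W le_rfl w₁ w₃, B.comp ψ (C.h j) _ hψc V _ W le_rfl w₂ w₃]
      · have w₁ : W ≤ bmap 𝒴 φ ⁻¹ᵁ (bmap 𝒴 (C.h i) ⁻¹ᵁ U) := by rw [hφ]; exact wa
        have w₂ : W ≤ bmap 𝒴 ψ ⁻¹ᵁ (bmap 𝒴 (C.h j) ⁻¹ᵁ U) := by rw [hψ]; exact wb
        have w₃ : W ≤ bmap 𝒴 (φ ≫ C.h i) ⁻¹ᵁ U := by rw [le_comp]; exact w₁
        have hc' : R a' (φ ≫ C.h i) := hR φ _ (hC i)
        rw [ms_of_eq N (ξ' := a') (ξ := C.a i) (InducedCategory.homMk φ) hφ wa w₁,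
          ms_of_eq N (ξ' := a') (ξ := C.a j) (InducedCategory.homMk ψ) hψ wb w₂,
          hs φ (C.h i) (hC i) _ hc' rfl W w₁ w₃, hs ψ (C.h j) (hC j) _ hc' hψc W w₂ w₃]
  refine ⟨n, fun a c hc => ?_, fun n' hn' => B.ext C _ _ fun i => ?_⟩
  · obtain ⟨C', hC'⟩ := C.exists_pb h𝒴 hl c
    haveI : ∀ j, Flat (bmap 𝒴 (C'.h j)) := C'.flat
    refine sc_ext (fun j => bmap 𝒴 (C'.h j))
      (fun j => N.map (ξ' := C'.a j) (ξ := a) (InducedCategory.homMk (C'.h j)) rfl)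
      (fun j => hN _ _) (fun x _ => C'.surj x) _ _ fun j => ?_
    obtain ⟨i, δ, hδ⟩ := hC' j
    let W := bmap 𝒴 (C'.h j) ⁻¹ᵁ (bmap 𝒴 c ⁻¹ᵁ U)
    have w₃ : W ≤ bmap 𝒴 (C'.h j ≫ c) ⁻¹ᵁ U := by rw [le_comp]
    have w₄ : W ≤ bmap 𝒴 δ ⁻¹ᵁ (bmap 𝒴 (C.h i) ⁻¹ᵁ U) := by rw [← le_comp, hδ]; exact w₃
    have hc' : R (C'.a j) (C'.h j ≫ c) := hR _ _ hc
    show ms N (ξ' := C'.a j) (ξ := a) (InducedCategory.homMk (C'.h j)) (le_refl W) _ =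
      ms N (ξ' := C'.a j) (ξ := a) (InducedCategory.homMk (C'.h j)) (le_refl W) _
    rw [B.comp (C'.h j) c _ rfl U _ W le_rfl le_rfl w₃, ← B.comp δ (C.h i) _ hδ U _ W le_rfl w₄ w₃, hn i,
      hs δ (C.h i) (hC i) _ hc' hδ W w₄ w₃, hs (C'.h j) c hc _ hc' rfl W le_rfl w₃]
  · rw [hn' _ _ (hC i), hn i]

end Groth.Agent.TwSh99
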