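import Groth.Agent.TwSh99.Cat
import Groth.Agent.QCqs72.Basic

/-!
Quasi-coherent modules on a full image descend to modules on every covered object.
-/

set_option autoImplicit false
set_option backward.isDefEq.respectTransparency false
set_option backward.isDefEq.respectTransparency.types false
set_option backward.defeqAttrib.useBackward true
set_option linter.style.haveILetI false

noncomputable section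

universe w₁ v w u

open CategoryTheory CategoryTheory.Limits AlgebraicGeometry TopologicalSpace Opposite
open Groth.Agent.QC70 Groth.Agent.QCPull72 Groth.Agent.LimTop61

namespace Groth.Agent.TwSh99

open Desc59
open StMod (sch bmap)

section Iso

variable {Z T : Scheme.{u}} (r : Z ⟶ T) [IsIso r] (M : T.Modules)

theorem unitSec_injective_of_isIso (V : T.Opens) : Function.Injective (unitSec r M (le_refl (r ⁻¹ᵁ V))) :=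
  fun n n' h => QSheaf.unitSec_ext (fun _ : PUnit.{1} => r) M (fun x _ => ⟨⟨⟩, r.surjective x⟩) n n' fun _ => h

theorem unitSec_surjective_of_isIso [M.IsQuasicoherent] (V : T.Opens) :
    Function.Surjective (unitSec r M (le_refl (r ⁻¹ᵁ V))) := fun y => by
  haveI : QuasiCompactCover (⟨PUnit.{u + 1}, fun _ => Z, fun _ => r⟩ : PreZeroHypercover.{u} T) :=
    QuasiCompactCover.of_isOpenMap (𝒰 := Scheme.Cover.mkOfCovers (P := @Flat) _ (fun _ : PUnit.{u + 1} => Z)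
      (fun _ => r) (fun x => ⟨⟨⟩, r.surjective x⟩) (fun _ => inferInstance)) fun _ => r.isOpenMap
  obtain ⟨n, hn, -⟩ := QSheaf.existsUnique_descend (fun _ : PUnit.{u + 1} => r) M V (fun _ => y)
    fun i j T' a b h ea eb => by
      obtain rfl : a = b := (cancel_mono r).1 (ea.trans eb.symm)
      rfl
  exact ⟨n, hn ⟨⟩⟩

theorem isIso_of_app_bijective {X : Scheme.{u}} {A B : X.Modules} (φ : A ⟶ B)
    (h : ∀ U, Function.Bijective (φ.app U)) : IsIso φ := by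
  let g : ∀ U : X.Opens, Γ(B, U) → Γ(A, U) := fun U y => ((h U).2 y).choose
  have hg : ∀ U y, φ.app U (g U y) = y := fun U y => ((h U).2 y).choose_spec
  refine ⟨mkHom g (fun U y y' => (h U).1 (by rw [map_add, hg, hg, hg]))
    (fun U s y => (h U).1 (by rw [Scheme.Modules.Hom.app_smul, hg, hg]))
    (fun {U V} hV y => (h V).1 (by rw [app_res, hg, hg])), ?_, ?_⟩
  · refine Scheme.Modules.hom_ext _ _ fun U => ?_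
    ext x
    exact (h U).1 (hg U _)
  · refine Scheme.Modules.hom_ext _ _ fun U => ?_
    ext y
    exact hg U y

end Iso

variable {S : Scheme.{u}} {𝒴 : BasedCategory.{v, w} (Over S)} {α : Type w₁} {f : α → 𝒴.obj}
  (N : StMod.Mod (Ind 𝒴 f))

/-- restriction along a morphism between values of the family -/
abbrev imap {a' a : α} (φ : f a' ⟶ f a) {g : sch 𝒴 (f a') ⟶ sch 𝒴 (f a)} (hg : bmap 𝒴 φ = g) :
    N.obj a ⟶ (Scheme.Modules.pushforward g).obj (N.obj a') :=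
  N.map (ξ' := a') (ξ := a) (InducedCategory.homMk φ) hg

section Rd

variable {T : Scheme.{u}} {a₁ a' : α} (c : T ⟶ sch 𝒴 (f a₁)) (r : sch 𝒴 (f a') ⟶ T)
  (φ : f a' ⟶ f a₁) (hφ : bmap 𝒴 φ = r ≫ c)

/-- reading a section of an inverse image on an object of the family -/
def rd : (Scheme.Modules.pullback c).obj (N.obj a₁) ⟶ (Scheme.Modules.pushforward r).obj (N.obj a') :=
  mkPush (fun V z => (adj (imap N φ hφ)).app (r ⁻¹ᵁ V)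
      (QSheaf.tr (rfl : r ≫ c = r ≫ c) (N.obj a₁) (le_refl (r ⁻¹ᵁ V)) z))
    (fun V z z' => by rw [map_add, map_add])
    (fun V s z => by rw [QSheaf.tr_smul, Scheme.Modules.Hom.app_smul])
    (fun {V V'} hV z => by
      rw [QSheaf.tr_res (rfl : r ≫ c = r ≫ c) (N.obj a₁) (le_refl (r ⁻¹ᵁ V)) (le_refl (r ⁻¹ᵁ V')) hV
        (r.preimage_mono hV), app_res])

theorem rd_unitSec (U : (sch 𝒴 (f a₁)).Opens) (y : Γ(N.obj a₁, U))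
    (h : r ⁻¹ᵁ (c ⁻¹ᵁ U) ≤ bmap 𝒴 φ ⁻¹ᵁ U) :
    (rd N c r φ hφ).app (c ⁻¹ᵁ U) (unitSec c (N.obj a₁) (le_refl (c ⁻¹ᵁ U)) y) =
      ms N (ξ' := a') (ξ := a₁) (InducedCategory.homMk φ) h y := by
  show (adj (imap N φ hφ)).app _ (QSheaf.tr (rfl : r ≫ c = r ≫ c) (N.obj a₁) (le_refl (r ⁻¹ᵁ (c ⁻¹ᵁ U))) _) = _
  rw [QSheaf.tr_unitSec (rfl : r ≫ c = r ≫ c) (N.obj a₁) (le_refl (c ⁻¹ᵁ U)) (le_refl _)
    (le_refl _ : r ⁻¹ᵁ (c ⁻¹ᵁ U) ≤ (r ≫ c) ⁻¹ᵁ U), adj_unitSec]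
  exact ms_of_eq N (ξ' := a') (ξ := a₁) (InducedCategory.homMk φ) hφ _ h y

variable {N}

theorem rd_bijective (hN : StMod.isQCoh (Ind 𝒴 f) N) [IsIso r] (V : T.Opens) :
    Function.Bijective ((rd N c r φ hφ).app V) := by
  haveI : (N.obj a₁).IsQuasicoherent := hN.2 a₁
  haveI : ((Scheme.Modules.pullback c).obj (N.obj a₁)).IsQuasicoherent := QCPull72.isQuasicoherent_pullback _ _
  haveI : IsIso (adj (imap N φ hφ)) := hN.1 (ξ' := a') (ξ := a₁) (InducedCategory.homMk φ) hφ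
  let P := (pullbackCompIso c r (rfl : r ≫ c = r ≫ c)).hom.app (N.obj a₁) ≫ adj (imap N φ hφ)
  have hP : Function.Bijective (P.app (r ⁻¹ᵁ V)) :=
    ⟨app_injective_of_mono P _, fun y => ⟨(inv P).app _ y, app_inv_app P _ y⟩⟩
  exact hP.comp ⟨unitSec_injective_of_isIso r _ V, unitSec_surjective_of_isIso r _ V⟩

/-- reading through a further morphism -/
theorem rd_comp {a'' : α} (r' : sch 𝒴 (f a'') ⟶ T) (χ : f a'' ⟶ f a') (φ' : f a'' ⟶ f a₁)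
    (hφ' : bmap 𝒴 φ' = r' ≫ c) (hχφ : χ ≫ φ = φ') (hχ : bmap 𝒴 χ ≫ r = r') :
    rd N c r' φ' hφ' = kcomp hχ (rd N c r φ hφ) (imap N χ rfl) := by
  refine QEff.hom_ext_unitSec c fun U y => ?_
  have h₁ : r ⁻¹ᵁ (c ⁻¹ᵁ U) ≤ bmap 𝒴 φ ⁻¹ᵁ U := le_of_eq (by rw [hφ]; rfl)
  have h₂ : r' ⁻¹ᵁ (c ⁻¹ᵁ U) ≤ bmap 𝒴 φ' ⁻¹ᵁ U := le_of_eq (by rw [hφ']; rfl)
  have h₃ : r' ⁻¹ᵁ (c ⁻¹ᵁ U) ≤ bmap 𝒴 χ ⁻¹ᵁ (r ⁻¹ᵁ (c ⁻¹ᵁ U)) := preimage_comp_le r (bmap 𝒴 χ) hχ _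
  rw [rd_unitSec N c r' φ' hφ' U y h₂, ← sc_self (kcomp hχ _ _),
    ← sc_kcomp hχ (rd N c r φ hφ) (imap N χ rfl) le_rfl h₃ le_rfl, sc_self, rd_unitSec N c r φ hφ U y h₁]
  subst hχφ
  exact (ms_comp N (ξ'' := a'') (ξ' := a') (ξ := a₁) (InducedCategory.homMk χ) (InducedCategory.homMk φ) h₁ h₃
    h₂ y).symm

theorem rd_tr_unit {T' : Scheme.{u}} (g : T' ⟶ T) {c' : T' ⟶ sch 𝒴 (f a₁)} (eg : g ≫ c = c')
    {a'' : α} (r' : sch 𝒴 (f a'') ⟶ T') (φ' : f a'' ⟶ f a₁) (hφ' : bmap 𝒴 φ' = r' ≫ c')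
    (hr : bmap 𝒴 φ' = (r' ≫ g) ≫ c) (U : (sch 𝒴 (f a₁)).Opens) (y : Γ(N.obj a₁, U)) :
    (rd N c' r' φ' hφ').app (g ⁻¹ᵁ (c ⁻¹ᵁ U))
        (QSheaf.tr eg (N.obj a₁) (le_refl (g ⁻¹ᵁ (c ⁻¹ᵁ U))) (unitSec c (N.obj a₁) (le_refl (c ⁻¹ᵁ U)) y)) =
      (rd N c (r' ≫ g) φ' hr).app (c ⁻¹ᵁ U) (unitSec c (N.obj a₁) (le_refl (c ⁻¹ᵁ U)) y) := by
  subst eg
  have h₂ : r' ⁻¹ᵁ ((g ≫ c) ⁻¹ᵁ U) ≤ bmap 𝒴 φ' ⁻¹ᵁ U := le_of_eq (by rw [hφ']; rfl)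
  refine ((congrArg ((rd N (g ≫ c) r' φ' hφ').app (g ⁻¹ᵁ (c ⁻¹ᵁ U)))
    (QSheaf.tr_unitSec rfl (N.obj a₁) (le_refl (c ⁻¹ᵁ U)) (le_refl (g ⁻¹ᵁ (c ⁻¹ᵁ U)))
      (le_refl ((g ≫ c) ⁻¹ᵁ U)) y)).trans (rd_unitSec N (g ≫ c) r' φ' hφ' U y h₂)).trans ?_
  exact (rd_unitSec N c (r' ≫ g) φ' hr U y h₂).symm

/-- reading is compatible with transition of sections -/
theorem rd_tr {T' : Scheme.{u}} (g : T' ⟶ T) {c' : T' ⟶ sch 𝒴 (f a₁)} (eg : g ≫ c = c')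
    {a'' : α} (r' : sch 𝒴 (f a'') ⟶ T') (φ' : f a'' ⟶ f a₁) (hφ' : bmap 𝒴 φ' = r' ≫ c')
    (hr : bmap 𝒴 φ' = (r' ≫ g) ≫ c) (V : T.Opens) (z : Γ((Scheme.Modules.pullback c).obj (N.obj a₁), V)) :
    (rd N c' r' φ' hφ').app (g ⁻¹ᵁ V) (QSheaf.tr eg (N.obj a₁) (le_refl (g ⁻¹ᵁ V)) z) =
      (rd N c (r' ≫ g) φ' hr).app V z := by
  let m : (Scheme.Modules.pullback c).obj (N.obj a₁) ⟶
      (Scheme.Modules.pushforward (r' ≫ g)).obj (N.obj a'') :=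
    mkPush (fun V z => (rd N c' r' φ' hφ').app (g ⁻¹ᵁ V) (QSheaf.tr eg (N.obj a₁) (le_refl (g ⁻¹ᵁ V)) z))
      (fun V z z' => by rw [map_add, map_add])
      (fun V s z => by
        rw [QSheaf.tr_smul, ← sc_self (rd N c' r' φ' hφ'), sc_smul, sc_self]
        congr 1
        show (g.appLE V _ le_rfl ≫ r'.appLE _ _ _) s = _
        rw [Scheme.Hom.appLE_comp_appLE]
        rfl)
      (fun {V V'} hV z => by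
        rw [QSheaf.tr_res eg (N.obj a₁) (le_refl (g ⁻¹ᵁ V)) (le_refl (g ⁻¹ᵁ V')) hV (g.preimage_mono hV)]
        exact app_res (rd N c' r' φ' hφ') (g.preimage_mono hV) _)
  have e : m = rd N c (r' ≫ g) φ' hr :=
    QEff.hom_ext_unitSec c fun U y => rd_tr_unit c g eg r' φ' hφ' hr U y
  exact congr(Scheme.Modules.Hom.app $e V z)

end Rd

variable {N} {η : 𝒴.obj} (C : Cov f η) (h𝒴 : FibCat.IsFibGrpd 𝒴.p) (hl : Lifts f)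
  (hN : StMod.isQCoh (Ind 𝒴 f) N)

section Glue

variable {T : Scheme.{u}} {i j : C.ι} (a : T ⟶ sch 𝒴 (f (C.a i))) (b : T ⟶ sch 𝒴 (f (C.a j)))

/-- the gluing morphism reads equally on all tests -/
def Good (d : (Scheme.Modules.pullback a).obj (N.obj (C.a i)) ⟶ (Scheme.Modules.pullback b).obj (N.obj (C.a j))) :
    Prop :=
  ∀ (a' : α) (r : sch 𝒴 (f a') ⟶ T) (φ : f a' ⟶ f (C.a i)) (ψ : f a' ⟶ f (C.a j)) (hφ : bmap 𝒴 φ = r ≫ a)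
    (hψ : bmap 𝒴 ψ = r ≫ b), φ ≫ C.h i = ψ ≫ C.h j → d ≫ rd N b r ψ hψ = rd N a r φ hφ

include hl h𝒴 in
theorem exists_test {h : T ⟶ sch 𝒴 η} (ea : a ≫ bmap 𝒴 (C.h i) = h) (eb : b ≫ bmap 𝒴 (C.h j) = h) :
    ∃ (a' : α) (r : sch 𝒴 (f a') ⟶ T) (φ : f a' ⟶ f (C.a i)) (ψ : f a' ⟶ f (C.a j)),
      IsIso r ∧ bmap 𝒴 φ = r ≫ a ∧ bmap 𝒴 ψ = r ≫ b ∧ φ ≫ C.h i = ψ ≫ C.h j := by
  obtain ⟨a', φ, r, hr, hφ⟩ := hl (C.a i) T a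
  obtain ⟨ψ, hψ, hc⟩ := exists_fac_sch h𝒴 (C.h j) (φ ≫ C.h i) (r ≫ b) (by
    rw [StMod.bmap_comp, hφ, Category.assoc, Category.assoc, ea, eb])
  exact ⟨a', r, φ, ψ, hr, hφ, hψ, hc.symm⟩

include hl h𝒴 hN in
theorem existsUnique_good {h : T ⟶ sch 𝒴 η} (ea : a ≫ bmap 𝒴 (C.h i) = h) (eb : b ≫ bmap 𝒴 (C.h j) = h) :
    ∃! d, Good (N := N) C a b d := by
  obtain ⟨a₀, r₀, φ₀, ψ₀, hr₀, hφ₀, hψ₀, hc₀⟩ := exists_test C h𝒴 hl a b ea eb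
  haveI := isIso_of_app_bijective _ (rd_bijective b r₀ ψ₀ hψ₀ hN)
  refine ⟨rd N a r₀ φ₀ hφ₀ ≫ inv (rd N b r₀ ψ₀ hψ₀), fun a' r φ ψ hφ hψ hc => ?_, fun d hd => ?_⟩
  · obtain ⟨χ, hχ, hχc⟩ := exists_fac_sch h𝒴 φ₀ φ (r ≫ inv r₀) (by simp [hφ₀, hφ])
    have hχψ : χ ≫ ψ₀ = ψ := by
      refine hom_ext_sch h𝒴 (C.h j) ?_ ?_
      · rw [StMod.bmap_comp, hχ, hψ₀, hψ]; simp
      · rw [Category.assoc, ← hc₀, ← Category.assoc, hχc, hc]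
    have hχr : bmap 𝒴 χ ≫ r₀ = r := by simp [hχ]
    rw [rd_comp b r₀ ψ₀ hψ₀ r χ ψ hψ hχψ hχr, rd_comp a r₀ φ₀ hφ₀ r χ φ hφ hχc hχr]
    refine Scheme.Modules.hom_ext _ _ fun V => ?_
    ext z
    show (kcomp hχr (rd N b r₀ ψ₀ hψ₀) (imap N χ rfl)).app V
      ((inv (rd N b r₀ ψ₀ hψ₀)).app V ((rd N a r₀ φ₀ hφ₀).app V z)) = _
    rw [← sc_self (kcomp _ _ _), ← sc_self (kcomp hχr (rd N a r₀ φ₀ hφ₀) (imap N χ rfl)),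
      ← sc_kcomp hχr _ _ le_rfl (preimage_comp_le r₀ (bmap 𝒴 χ) hχr V) le_rfl,
      ← sc_kcomp hχr _ _ le_rfl (preimage_comp_le r₀ (bmap 𝒴 χ) hχr V) le_rfl, sc_self, sc_self]
    exact congrArg _ (app_inv_app _ _ _)
  · rw [← hd a₀ r₀ φ₀ ψ₀ hφ₀ hψ₀ hc₀, Category.assoc, IsIso.hom_inv_id, Category.comp_id]

/-- the gluing morphism -/
def glueHom {h : T ⟶ sch 𝒴 η} (ea : a ≫ bmap 𝒴 (C.h i) = h) (eb : b ≫ bmap 𝒴 (C.h j) = h) :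
    (Scheme.Modules.pullback a).obj (N.obj (C.a i)) ⟶ (Scheme.Modules.pullback b).obj (N.obj (C.a j)) :=
  (existsUnique_good C h𝒴 hl hN a b ea eb).choose

theorem good_glueHom {h : T ⟶ sch 𝒴 η} (ea : a ≫ bmap 𝒴 (C.h i) = h) (eb : b ≫ bmap 𝒴 (C.h j) = h) :
    Good (N := N) C a b (glueHom C h𝒴 hl hN a b ea eb) :=
  (existsUnique_good C h𝒴 hl hN a b ea eb).choose_spec.1

theorem glueHom_eq {h : T ⟶ sch 𝒴 η} (ea : a ≫ bmap 𝒴 (C.h i) = h) (eb : b ≫ bmap 𝒴 (C.h j) = h)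
    {d} (hd : Good (N := N) C a b d) : glueHom C h𝒴 hl hN a b ea eb = d :=
  ((existsUnique_good C h𝒴 hl hN a b ea eb).choose_spec.2 d hd).symm

end Glue

theorem glueHom_self {T : Scheme.{u}} {i : C.ι} (a : T ⟶ sch 𝒴 (f (C.a i))) {h : T ⟶ sch 𝒴 η}
    (ea : a ≫ bmap 𝒴 (C.h i) = h) : glueHom C h𝒴 hl hN a a ea ea = 𝟙 _ := by
  refine glueHom_eq C h𝒴 hl hN a a ea ea fun a' r φ ψ hφ hψ hc => ?_
  obtain rfl : φ = ψ := hom_ext_sch h𝒴 (C.h i) (hφ.trans hψ.symm) hc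
  exact Category.id_comp _

theorem glueHom_comp {T : Scheme.{u}} {i j k : C.ι} (a : T ⟶ sch 𝒴 (f (C.a i))) (b : T ⟶ sch 𝒴 (f (C.a j)))
    (c : T ⟶ sch 𝒴 (f (C.a k))) {h : T ⟶ sch 𝒴 η} (ea : a ≫ bmap 𝒴 (C.h i) = h)
    (eb : b ≫ bmap 𝒴 (C.h j) = h) (ec : c ≫ bmap 𝒴 (C.h k) = h) :
    glueHom C h𝒴 hl hN a b ea eb ≫ glueHom C h𝒴 hl hN b c eb ec = glueHom C h𝒴 hl hN a c ea ec := by
  refine (glueHom_eq C h𝒴 hl hN a c ea ec fun a' r φ χ hφ hχ hc => ?_).symm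
  obtain ⟨ψ, hψ, hψc⟩ := exists_fac_sch h𝒴 (C.h j) (φ ≫ C.h i) (r ≫ b) (by
    rw [StMod.bmap_comp, hφ, Category.assoc, Category.assoc, ea, eb])
  rw [Category.assoc, good_glueHom C h𝒴 hl hN b c eb ec a' r ψ χ hψ hχ (hψc.trans hc),
    good_glueHom C h𝒴 hl hN a b ea eb a' r φ ψ hφ hψ hψc.symm]

theorem glueHom_pull {T T' : Scheme.{u}} (g : T' ⟶ T) {i j : C.ι} (a : T ⟶ sch 𝒴 (f (C.a i)))
    (b : T ⟶ sch 𝒴 (f (C.a j))) {a' : T' ⟶ sch 𝒴 (f (C.a i))} {b' : T' ⟶ sch 𝒴 (f (C.a j))}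
    {h : T ⟶ sch 𝒴 η} {h' : T' ⟶ sch 𝒴 η} (ea : a ≫ bmap 𝒴 (C.h i) = h) (eb : b ≫ bmap 𝒴 (C.h j) = h)
    (ega : g ≫ a = a') (egb : g ≫ b = b') (ea' : a' ≫ bmap 𝒴 (C.h i) = h') (eb' : b' ≫ bmap 𝒴 (C.h j) = h') :
    (pullbackCompIso a g ega).inv.app (N.obj (C.a i)) ≫
        (Scheme.Modules.pullback g).map (glueHom C h𝒴 hl hN a b ea eb) ≫
          (pullbackCompIso b g egb).hom.app (N.obj (C.a j)) = glueHom C h𝒴 hl hN a' b' ea' eb' := by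
  refine (glueHom_eq C h𝒴 hl hN a' b' ea' eb' fun c r φ ψ hφ hψ hc => ?_).symm
  subst ega egb
  refine QEff.hom_ext_unitSec (g ≫ a) fun U y => ?_
  have h1 : ((rd N a (r ≫ g) φ (by rw [hφ, Category.assoc])).app (a ⁻¹ᵁ U))
      (unitSec a (N.obj (C.a i)) (le_refl _) y) = _ :=
    rd_unitSec N a (r ≫ g) φ _ U y (le_of_eq (by rw [hφ]; rfl))
  rw [rd_unitSec N (g ≫ a) r φ hφ U y (le_of_eq (by rw [hφ]; rfl))]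
  refine Eq.trans ?_ h1
  show (rd N (g ≫ b) r ψ hψ).app _ (((pullbackCompIso b g rfl).hom.app (N.obj (C.a j))).app _
    (((Scheme.Modules.pullback g).map (glueHom C h𝒴 hl hN a b ea eb)).app _
      (((pullbackCompIso a g rfl).inv.app (N.obj (C.a i))).app _ (unitSec (g ≫ a) (N.obj (C.a i)) _ y)))) = _
  rw [QEff.pci_inv_unitSec (rfl : g ≫ a = g ≫ a) (N.obj (C.a i)) (le_refl (g ⁻¹ᵁ (a ⁻¹ᵁ U)))]
  refine (congrArg ((rd N (g ≫ b) r ψ hψ).app (g ⁻¹ᵁ (a ⁻¹ᵁ U)))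
    (congrArg (((pullbackCompIso b g rfl).hom.app (N.obj (C.a j))).app (g ⁻¹ᵁ (a ⁻¹ᵁ U)))
      (QEff.pullback_map_unitSec g (glueHom C h𝒴 hl hN a b ea eb) (le_refl (g ⁻¹ᵁ (a ⁻¹ᵁ U))) _))).trans ?_
  refine (rd_tr b g rfl r ψ hψ (by rw [hψ, Category.assoc]) (a ⁻¹ᵁ U) _).trans ?_
  exact congr(Scheme.Modules.Hom.app $(good_glueHom C h𝒴 hl hN a b ea eb c (r ≫ g) φ ψ
    (by rw [hφ, Category.assoc]) (by rw [hψ, Category.assoc]) hc) (a ⁻¹ᵁ U)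
      (unitSec a (N.obj (C.a i)) (le_refl (a ⁻¹ᵁ U)) y))

/-- the descent datum -/
def datum : Desc.modPF.{u}.DescentData (fun i => bmap 𝒴 (C.h i)) where
  obj i := N.obj (C.a i)
  hom _ q i₁ i₂ f₁ f₂ hf₁ hf₂ := glueHom C h𝒴 hl hN f₁ f₂ hf₁ hf₂
  pullHom_hom _ _ g q q' hq i₁ i₂ f₁ f₂ hf₁ hf₂ gf₁ gf₂ hgf₁ hgf₂ := by
    simp only [Pseudofunctor.LocallyDiscreteOpToCat.pullHom]
    rw [ModPFBridge.mapComp'_hom_app f₁ g hgf₁, ModPFBridge.mapComp'_inv_app f₂ g hgf₂]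
    exact glueHom_pull C h𝒴 hl hN g f₁ f₂ hf₁ hf₂ hgf₁ hgf₂ _ _
  hom_self _ q i g hg := glueHom_self C h𝒴 hl hN g hg
  hom_comp _ q i₁ i₂ i₃ f₁ f₂ f₃ h₁ h₂ h₃ := glueHom_comp C h𝒴 hl hN f₁ f₂ f₃ h₁ h₂ h₃

theorem ms_eq_of_glue {i j : C.ι} {a' : α} (φ : f a' ⟶ f (C.a i)) (ψ : f a' ⟶ f (C.a j))
    (hc : φ ≫ C.h i = ψ ≫ C.h j) {t : sch 𝒴 (f a') ⟶ sch 𝒴 η} (ea : bmap 𝒴 φ ≫ bmap 𝒴 (C.h i) = t)
    (eb : bmap 𝒴 ψ ≫ bmap 𝒴 (C.h j) = t) {Ui : (sch 𝒴 (f (C.a i))).Opens} {Uj : (sch 𝒴 (f (C.a j))).Opens}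
    (yi : Γ(N.obj (C.a i), Ui)) (yj : Γ(N.obj (C.a j), Uj)) {W : (sch 𝒴 (f a')).Opens}
    (wa : W ≤ bmap 𝒴 φ ⁻¹ᵁ Ui) (wb : W ≤ bmap 𝒴 ψ ⁻¹ᵁ Uj)
    (h : (glueHom C h𝒴 hl hN (bmap 𝒴 φ) (bmap 𝒴 ψ) ea eb).app W (unitSec (bmap 𝒴 φ) (N.obj (C.a i)) wa yi) =
      unitSec (bmap 𝒴 ψ) (N.obj (C.a j)) wb yj) :
    ms N (ξ' := a') (ξ := C.a i) (InducedCategory.homMk φ) wa yi =
      ms N (ξ' := a') (ξ := C.a j) (InducedCategory.homMk ψ) wb yj := by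
  have key : ∀ {k : C.ι} (χ : f a' ⟶ f (C.a k)) (hχ : bmap 𝒴 χ = 𝟙 _ ≫ bmap 𝒴 χ)
      {U : (sch 𝒴 (f (C.a k))).Opens} (y : Γ(N.obj (C.a k), U)) (w : W ≤ bmap 𝒴 χ ⁻¹ᵁ U),
      sc (rd N (bmap 𝒴 χ) (𝟙 _) χ hχ) (le_refl W) (unitSec (bmap 𝒴 χ) (N.obj (C.a k)) w y) =
        ms N (ξ' := a') (ξ := C.a k) (InducedCategory.homMk χ) w y := by
    intro k χ hχ U y w
    have e : unitSec (bmap 𝒴 χ) (N.obj (C.a k)) w y =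
        res _ w (unitSec (bmap 𝒴 χ) (N.obj (C.a k)) (le_refl (bmap 𝒴 χ ⁻¹ᵁ U)) y) := by
      rw [← unitSec_res (bmap 𝒴 χ) (N.obj (C.a k)) (le_refl (bmap 𝒴 χ ⁻¹ᵁ U)) w (le_refl U) w, res_self]
    rw [e]
    refine (sc_res (rd N (bmap 𝒴 χ) (𝟙 _) χ hχ) (U := bmap 𝒴 χ ⁻¹ᵁ U) (U' := W) (W := bmap 𝒴 χ ⁻¹ᵁ U) (W' := W)
      (le_refl (bmap 𝒴 χ ⁻¹ᵁ U)) (le_refl W) w w _).trans ?_
    refine (congrArg _ (sc_self _ _)).trans ?_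
    exact (congrArg (res (X := sch 𝒴 (f a')) (N.obj a') w)
      (rd_unitSec N (bmap 𝒴 χ) (𝟙 _) χ hχ U y (le_refl (bmap 𝒴 χ ⁻¹ᵁ U)))).trans
      (res_ms N (ξ' := a') (ξ := C.a k) (InducedCategory.homMk χ) _ _ w y)
  have hg := good_glueHom C h𝒴 hl hN (bmap 𝒴 φ) (bmap 𝒴 ψ) ea eb a' (𝟙 _) φ ψ (Category.id_comp _).symm
    (Category.id_comp _).symm hc
  rw [← key φ (Category.id_comp _).symm yi wa, ← key ψ (Category.id_comp _).symm yj wb, ← hg, ← h]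
  rfl

include h𝒴 hl hN in
/-- a module on the object with compatible comparison maps to the members of the covering -/
theorem exists_cov_module : ∃ (M : (sch 𝒴 η).Modules) (_ : M.IsQuasicoherent)
    (κ : ∀ i, M ⟶ (Scheme.Modules.pushforward (bmap 𝒴 (C.h i))).obj (N.obj (C.a i))),
    (∀ i, Cart (κ i)) ∧
      ∀ (a' : α) (i j : C.ι) (φ : f a' ⟶ f (C.a i)) (ψ : f a' ⟶ f (C.a j)), φ ≫ C.h i = ψ ≫ C.h j →
        ∀ (U : (sch 𝒴 η).Opens) (x : Γ(M, U)) (W : (sch 𝒴 (f a')).Opens)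
          (wa : W ≤ bmap 𝒴 φ ⁻¹ᵁ (bmap 𝒴 (C.h i) ⁻¹ᵁ U)) (wb : W ≤ bmap 𝒴 ψ ⁻¹ᵁ (bmap 𝒴 (C.h j) ⁻¹ᵁ U)),
          ms N (ξ' := a') (ξ := C.a i) (InducedCategory.homMk φ) wa (sc (κ i) le_rfl x) =
            ms N (ξ' := a') (ξ := C.a j) (InducedCategory.homMk ψ) wb (sc (κ j) le_rfl x) := by
  let D := datum C h𝒴 hl hN
  haveI := C.qcc
  haveI : ∀ i, Flat (bmap 𝒴 (C.h i)) := C.flat
  haveI : ∀ i, (QEff.Dm D i).IsQuasicoherent := fun i => hN.2 (C.a i)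
  refine ⟨QEff.dmod D, QEff.isQuasicoherent_dmod D, fun i => QEff.dπ D i, fun i => QEff.isIso_η D i,
    fun a' i j φ ψ hc U x W wa wb => ?_⟩
  let t := bmap 𝒴 φ ≫ bmap 𝒴 (C.h i)
  have eb : bmap 𝒴 ψ ≫ bmap 𝒴 (C.h j) = t := by
    show _ = bmap 𝒴 φ ≫ _
    rw [← StMod.bmap_comp, ← StMod.bmap_comp, hc]
  have wa₀ : t ⁻¹ᵁ U ≤ bmap 𝒴 φ ⁻¹ᵁ (bmap 𝒴 (C.h i) ⁻¹ᵁ U) := le_rfl
  have wb₀ : t ⁻¹ᵁ U ≤ bmap 𝒴 ψ ⁻¹ᵁ (bmap 𝒴 (C.h j) ⁻¹ᵁ U) := preimage_comp_le _ _ eb U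
  have h0 := QEff.mfam_cmp D x i j _ (bmap 𝒴 φ) (bmap 𝒴 ψ) t rfl eb (t ⁻¹ᵁ U) wa₀ wb₀
  rw [QEff.sig_apply] at h0
  have wt : W ≤ t ⁻¹ᵁ U := wa
  have h1 := ms_eq_of_glue C h𝒴 hl hN φ ψ hc rfl eb (QEff.mfam D x i) (QEff.mfam D x j) wa₀ wb₀ h0
  have h2 := congrArg (res (N.obj a') wt) h1
  rw [sc_self, sc_self]
  exact (res_ms N (ξ' := a') (ξ := C.a i) (InducedCategory.homMk φ) wa₀ wa wt _).symm.trans
    (h2.trans (res_ms N (ξ' := a') (ξ := C.a j) (InducedCategory.homMk ψ) wb₀ wb wt _))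

end Groth.Agent.TwSh99
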