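import Groth.Agent.TwSh99.Datum
import Groth.Prelude.Def_StMod6

/-!
Quasi-coherent modules on a category fibred in groupoids are the quasi-coherent modules on the full image of a
covering family of objects stable under lifting.
-/

set_option autoImplicit false
set_option backward.isDefEq.respectTransparency false
set_option backward.isDefEq.respectTransparency.types false
set_option linter.style.haveILetI false

noncomputable section

universe w₁ v w u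

open CategoryTheory CategoryTheory.Limits AlgebraicGeometry TopologicalSpace Opposite
open Groth.Agent.QC70

namespace Groth.Agent.TwSh99

open StMod (sch bmap)

theorem le_id {S : Scheme.{u}} {𝒴 : BasedCategory.{v, w} (Over S)} {ξ : 𝒴.obj} (U : (sch 𝒴 ξ).Opens) :
    bmap 𝒴 (𝟙 ξ) ⁻¹ᵁ U = U := by
  rw [StMod.bmap_id]; rfl

theorem appLE_bmap_id {S : Scheme.{u}} {𝒴 : BasedCategory.{v, w} (Over S)} {ξ : 𝒴.obj} {U : (sch 𝒴 ξ).Opens}
    (h : U ≤ bmap 𝒴 (𝟙 ξ) ⁻¹ᵁ U) (r : Γ(sch 𝒴 ξ, U)) : (bmap 𝒴 (𝟙 ξ)).appLE U U h r = r := by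
  have key : ∀ (g : sch 𝒴 ξ ⟶ sch 𝒴 ξ), g = 𝟙 _ → ∀ h : U ≤ g ⁻¹ᵁ U, g.appLE U U h r = r := by
    intro g hg h
    subst hg
    rw [Scheme.Hom.appLE, Scheme.Hom.id_app, Category.id_comp]
    exact (ConcreteCategory.congr_hom ((congrArg _ (Subsingleton.elim _ _)).trans ((sch 𝒴 ξ).presheaf.map_id (op U))) r)
  exact key _ (StMod.bmap_id ξ) h

variable {S : Scheme.{u}} {𝒴 : BasedCategory.{v, w} (Over S)} {α : Type w₁} (f : α → 𝒴.obj)

/-- restriction of a module to the full image of the family -/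
def rest (G : StMod.Mod 𝒴) : StMod.Mod (Ind 𝒴 f) where
  obj a := G.obj (f a)
  map φ _ hg := G.map φ.hom hg
  map_id a := G.map_id (f a)
  map_comp ψ φ _ _ hh hg := G.map_comp ψ.hom φ.hom hh hg

theorem ms_rest (G : StMod.Mod 𝒴) {a' a : (Ind 𝒴 f).obj} (φ : a' ⟶ a) {U : (sch 𝒴 (f a)).Opens}
    {W : (sch 𝒴 (f a')).Opens} (h : W ≤ bmap 𝒴 φ.hom ⁻¹ᵁ U) (x : Γ(G.obj (f a), U)) :
    ms (rest f G) φ h x = ms G φ.hom h x := rfl

theorem isQCoh_rest {G : StMod.Mod 𝒴} (hG : StMod.isQCoh 𝒴 G) : StMod.isQCoh (Ind 𝒴 f) (rest f G) :=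
  ⟨fun _ _ φ _ hg => hG.1 φ.hom hg, fun a => hG.2 (f a)⟩

/-- every object is a bridge for the restriction of a module -/
def bridge {G : StMod.Mod 𝒴} (hG : StMod.isQCoh 𝒴 G) (η : 𝒴.obj) : Bridge (rest f G) η where
  M := G.obj η
  qc := hG.2 η
  κ a c := G.map c rfl
  cart a c := hG.1 c rfl
  comp {a' a} m c c' e U V W hV hW hW' x := by
    subst e
    exact ms_comp G m c hV hW hW' x

variable {f}

theorem hom_ext_rest {G G' : StMod.Mod 𝒴} (hG' : StMod.isQCoh 𝒴 G') (hC : ∀ η, Nonempty (Cov f η))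
    (u v : G ⟶ G') (h : ∀ a, u.app (f a) = v.app (f a)) : u = v := by
  refine StMod.Mod.hom_ext fun η => Scheme.Modules.hom_ext _ _ fun U => ?_
  ext x
  obtain ⟨C⟩ := hC η
  refine (bridge f hG' η).ext C _ _ fun i => ?_
  show ms G' (C.h i) le_rfl ((u.app η).app U x) = ms G' (C.h i) le_rfl ((v.app η).app U x)
  rw [← ms_hom u, ← ms_hom v, h (C.a i)]

theorem exists_hom_of_rest (h𝒴 : FibCat.IsFibGrpd 𝒴.p) (hl : Lifts f) (hC : ∀ η, Nonempty (Cov f η))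
    {G G' : StMod.Mod 𝒴} (hG' : StMod.isQCoh 𝒴 G') (w : rest f G ⟶ rest f G') :
    ∃ u : G ⟶ G', ∀ a, u.app (f a) = w.app a := by
  have key : ∀ η (U : (sch 𝒴 η).Opens) (x : Γ(G.obj η, U)),
      ∃! n : Γ(G'.obj η, U), ∀ a (c : f a ⟶ η) (_ : True),
        ms G' c (le_refl (bmap 𝒴 c ⁻¹ᵁ U)) n = (w.app a).app _ (ms G c (le_refl (bmap 𝒴 c ⁻¹ᵁ U)) x) := by
    intro η U x
    refine (bridge f hG' η).existsUnique_glue h𝒴 (isQCoh_rest f hG').1 hl (hC η).some (fun _ _ => True)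
      (fun _ _ _ => trivial) (fun _ => trivial) (fun a c _ => (w.app a).app _ (ms G c le_rfl x)) ?_
    intro a' a m c _ c' _ e W hW hW'
    subst e
    show _ = res (G'.obj (f a')) hW' ((w.app a').app _ (ms G (m ≫ c) le_rfl x))
    refine (ms_hom w (ξ' := a') (ξ := a) (InducedCategory.homMk m) hW (ms G c le_rfl x)).symm.trans ?_
    refine (congrArg ((w.app a').app W) (ms_comp G m c le_rfl hW hW' x)).trans ?_
    exact (congrArg ((w.app a').app W) (res_ms G (m ≫ c) le_rfl hW' hW' x).symm).trans (app_res (w.app a') hW' _)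
  choose n hn hu using key
  have hext : ∀ η (U : (sch 𝒴 η).Opens) (y y' : Γ(G'.obj η, U)),
      (∀ a (c : f a ⟶ η), ms G' c le_rfl y = ms G' c (le_refl (bmap 𝒴 c ⁻¹ᵁ U)) y') → y = y' :=
    fun η U y y' h => (bridge f hG' η).ext (hC η).some _ _ fun i => h _ _
  let u : ∀ η, G.obj η ⟶ G'.obj η := fun η => mkHom (n η)
    (fun U x y => hext η U _ _ fun a c => by
      rw [hn η U _ a c trivial, map_add, map_add, map_add, hn η U x a c trivial, hn η U y a c trivial])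
    (fun U r x => hext η U _ _ fun a c => by
      rw [hn η U _ a c trivial, ms_smul, Scheme.Modules.Hom.app_smul, ms_smul, hn η U x a c trivial])
    (fun {U V} hV x => hext η V _ _ fun a c => by
      have hle : bmap 𝒴 c ⁻¹ᵁ V ≤ bmap 𝒴 c ⁻¹ᵁ U := (bmap 𝒴 c).preimage_mono hV
      rw [hn η V _ a c trivial, ms_res G c le_rfl hle hV, ms_res G' c le_rfl hle hV,
        ← res_ms G c le_rfl hle hle, ← res_ms G' c le_rfl hle hle, hn η U x a c trivial]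
      exact app_res (w.app a) hle _)
  refine ⟨homOfMs u fun η' η φ U x => hext η' _ _ _ fun a c => ?_, fun a => ?_⟩
  · have hw : bmap 𝒴 c ⁻¹ᵁ (bmap 𝒴 φ ⁻¹ᵁ U) ≤ bmap 𝒴 (c ≫ φ) ⁻¹ᵁ U := le_of_eq (le_comp c φ U).symm
    show ms G' c le_rfl (n η' _ (ms G φ le_rfl x)) = ms G' c le_rfl (ms G' φ le_rfl (n η U x))
    rw [hn η' _ _ a c trivial, ms_comp G' c φ le_rfl le_rfl hw, ms_comp G c φ le_rfl le_rfl hw,
      ← res_ms G (c ≫ φ) le_rfl hw hw, ← res_ms G' (c ≫ φ) le_rfl hw hw, hn η U x a _ trivial]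
    exact app_res (w.app a) hw _
  · refine Scheme.Modules.hom_ext _ _ fun U => ?_
    ext x
    show n (f a) U x = (w.app a).app U x
    have h1 : U ≤ bmap 𝒴 (𝟙 (f a)) ⁻¹ᵁ U := (le_id U).ge
    have h2 := congrArg (res (G'.obj (f a)) h1) (hn (f a) U x a (𝟙 _) trivial)
    rw [res_ms G' (𝟙 _) _ h1, ms_id G' h1 le_rfl, res_self] at h2
    refine h2.trans ((app_res (w.app a) h1 _).symm.trans (congrArg ((w.app a).app U) ?_))
    exact (res_ms G (𝟙 (f a)) le_rfl h1 h1 x).trans ((ms_id G h1 le_rfl x).trans (res_self _))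

section Ext

variable {N : StMod.Mod (Ind 𝒴 f)}

/-- the tests factoring through a covering -/
def CovTests {η : 𝒴.obj} (C : Cov f η) {a : α} (c : f a ⟶ η) (a' : α) (m : f a' ⟶ f a) : Prop :=
  ∃ (i : C.ι) (δ : f a' ⟶ f (C.a i)), δ ≫ C.h i = m ≫ c

/-- comparison maps to all objects of the family, from those to the members of a covering -/
theorem exists_bridge (h𝒴 : FibCat.IsFibGrpd 𝒴.p) (hl : Lifts f) (hC : ∀ η, Nonempty (Cov f η))
    (hN : StMod.isQCoh (Ind 𝒴 f) N) (η : 𝒴.obj) : Nonempty (Bridge N η) := by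
  obtain ⟨C⟩ := hC η
  obtain ⟨M, hM, κ, hκ, hcomp⟩ := exists_cov_module C h𝒴 hl hN
  let selfBr : ∀ a : α, Bridge N (f a) := fun a =>
    { M := N.obj a
      qc := hN.2 a
      κ := fun a' m => N.map (ξ' := a') (ξ := a) (InducedCategory.homMk m) rfl
      cart := fun a' m => hN.1 (ξ' := a') (ξ := a) (InducedCategory.homMk m) rfl
      comp := fun {a'' a'} m c c' e U V W hV hW hW' x => by
        subst e
        exact ms_comp N (ξ'' := a'') (ξ' := a') (ξ := a) (InducedCategory.homMk m) (InducedCategory.homMk c)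
          hV hW hW' x }
  have key : ∀ (a : α) (c : f a ⟶ η) (U : (sch 𝒴 η).Opens) (x : Γ(M, U)),
      ∃! n : Γ(N.obj a, bmap 𝒴 c ⁻¹ᵁ U), ∀ (a' : α) (m : f a' ⟶ f a) (i : C.ι) (δ : f a' ⟶ f (C.a i)),
        δ ≫ C.h i = m ≫ c → ∀ (W : (sch 𝒴 (f a')).Opens) (wm : W ≤ bmap 𝒴 m ⁻¹ᵁ (bmap 𝒴 c ⁻¹ᵁ U))
          (wd : W ≤ bmap 𝒴 δ ⁻¹ᵁ (bmap 𝒴 (C.h i) ⁻¹ᵁ U)),
        ms N (ξ' := a') (ξ := a) (InducedCategory.homMk m) wm n =
          ms N (ξ' := a') (ξ := C.a i) (InducedCategory.homMk δ) wd (sc (κ i) le_rfl x) := by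
    intro a c U x
    obtain ⟨C', hC'⟩ := C.exists_pb h𝒴 hl c
    let R : ∀ a', (f a' ⟶ f a) → Prop := fun a' m => CovTests C c a' m
    have hle : ∀ {a' : α} {m : f a' ⟶ f a} (h : R a' m),
        bmap 𝒴 m ⁻¹ᵁ (bmap 𝒴 c ⁻¹ᵁ U) ≤ bmap 𝒴 h.choose_spec.choose ⁻¹ᵁ (bmap 𝒴 (C.h h.choose) ⁻¹ᵁ U) :=
      fun h => le_of_eq (by rw [← le_comp, ← le_comp, h.choose_spec.choose_spec])
    obtain ⟨n, hn, hu⟩ := (selfBr a).existsUnique_glue h𝒴 hN.1 hl C' R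
      (fun {a'' a'} m c' ⟨i, δ, hδ⟩ => ⟨i, m ≫ δ, by rw [Category.assoc, hδ, Category.assoc]⟩)
      (fun j => hC' j) (U := bmap 𝒴 c ⁻¹ᵁ U)
      (fun a' m h => ms N (ξ' := a') (ξ := C.a h.choose) (InducedCategory.homMk h.choose_spec.choose) (hle h)
        (sc (κ h.choose) le_rfl x))
      (fun {a'' a'} m c' hc c'' hc' e W hW hW' => by
        have w1 : W ≤ bmap 𝒴 (m ≫ hc.choose_spec.choose) ⁻¹ᵁ (bmap 𝒴 (C.h hc.choose) ⁻¹ᵁ U) :=
          (hW.trans ((bmap 𝒴 m).preimage_mono (hle hc))).trans (le_of_eq (le_comp _ _ _).symm)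
        refine (ms_comp N (ξ'' := a'') (ξ' := a') (ξ := C.a hc.choose) (InducedCategory.homMk m)
          (InducedCategory.homMk hc.choose_spec.choose) (hle hc) hW w1 _).trans ?_
        refine (hcomp a'' _ _ (m ≫ hc.choose_spec.choose) hc'.choose_spec.choose (by
          rw [Category.assoc, hc.choose_spec.choose_spec, hc'.choose_spec.choose_spec, ← Category.assoc, e])
          U x W w1 (hW'.trans (hle hc'))).trans ?_
        exact (res_ms N (ξ' := a'') (ξ := C.a hc'.choose) (InducedCategory.homMk hc'.choose_spec.choose)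
          (hle hc') (hW'.trans (hle hc')) hW' _).symm)
    refine ⟨n, fun a' m i δ e W wm wd => ?_, fun n' hn' => hu n' fun a' m hc => ?_⟩
    · have hc : R a' m := ⟨i, δ, e⟩
      have h1 := congrArg (res (X := sch 𝒴 (f a')) (N.obj a') wm) (hn a' m hc)
      refine (res_ms N (ξ' := a') (ξ := a) (InducedCategory.homMk m) le_rfl wm wm n).symm.trans (h1.trans ?_)
      refine (res_ms N (ξ' := a') (ξ := C.a hc.choose) (InducedCategory.homMk hc.choose_spec.choose) (hle hc)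
        (wm.trans (hle hc)) wm _).trans ?_
      exact hcomp a' _ _ hc.choose_spec.choose δ (by rw [hc.choose_spec.choose_spec, e]) U x W _ wd
    · exact hn' a' m _ _ hc.choose_spec.choose_spec _ le_rfl (hle hc)
  choose k hk hku using key
  have hext : ∀ (a : α) (c : f a ⟶ η) (V : (sch 𝒴 (f a)).Opens) (y y' : Γ(N.obj a, V)),
      (∀ (a' : α) (m : f a' ⟶ f a) (i : C.ι) (δ : f a' ⟶ f (C.a i)), δ ≫ C.h i = m ≫ c →
        ms N (ξ' := a') (ξ := a) (InducedCategory.homMk m) (le_refl (bmap 𝒴 m ⁻¹ᵁ V)) y =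
          ms N (ξ' := a') (ξ := a) (InducedCategory.homMk m) (le_refl (bmap 𝒴 m ⁻¹ᵁ V)) y') → y = y' := by
    intro a c V y y' h
    obtain ⟨C', hC'⟩ := C.exists_pb h𝒴 hl c
    refine (selfBr a).ext C' y y' fun j => ?_
    obtain ⟨i, δ, hδ⟩ := hC' j
    exact h _ _ i δ hδ
  have hwd : ∀ {a a' : α} (c : f a ⟶ η) (m : f a' ⟶ f a) {i : C.ι} (δ : f a' ⟶ f (C.a i))
      (_ : δ ≫ C.h i = m ≫ c) (U : (sch 𝒴 η).Opens),
      bmap 𝒴 m ⁻¹ᵁ (bmap 𝒴 c ⁻¹ᵁ U) ≤ bmap 𝒴 δ ⁻¹ᵁ (bmap 𝒴 (C.h i) ⁻¹ᵁ U) :=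
    fun c m i δ e U => le_of_eq (by rw [← le_comp, ← le_comp, e])
  let K : ∀ (a : α) (c : f a ⟶ η), M ⟶ (Scheme.Modules.pushforward (bmap 𝒴 c)).obj (N.obj a) := fun a c =>
    mkPush (k a c)
      (fun U x y => hext a c _ _ _ fun a' m i δ e => by
        rw [hk a c U _ a' m i δ e _ le_rfl (hwd c m δ e U), map_add (sc (κ i) le_rfl), map_add, map_add,
          hk a c U x a' m i δ e _ le_rfl (hwd c m δ e U), hk a c U y a' m i δ e _ le_rfl (hwd c m δ e U)])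
      (fun U r x => hext a c _ _ _ fun a' m i δ e => by
        rw [hk a c U _ a' m i δ e _ le_rfl (hwd c m δ e U), sc_smul, ms_smul]
        refine Eq.trans ?_ (ms_smul N (ξ' := a') (ξ := a) (InducedCategory.homMk m) _ _ _).symm
        rw [hk a c U x a' m i δ e _ le_rfl (hwd c m δ e U)]
        congr 1
        show ((bmap 𝒴 (C.h i)).appLE U _ le_rfl ≫ (bmap 𝒴 δ).appLE _ _ _) r =
          ((bmap 𝒴 c).appLE U _ le_rfl ≫ (bmap 𝒴 m).appLE _ _ _) r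
        rw [Scheme.Hom.appLE_comp_appLE, Scheme.Hom.appLE_comp_appLE]
        simp only [← StMod.bmap_comp, e])
      (fun {U V} hV x => hext a c _ _ _ fun a' m i δ e => by
        have h1 : bmap 𝒴 m ⁻¹ᵁ (bmap 𝒴 c ⁻¹ᵁ V) ≤ bmap 𝒴 m ⁻¹ᵁ (bmap 𝒴 c ⁻¹ᵁ U) :=
          (bmap 𝒴 m).preimage_mono ((bmap 𝒴 c).preimage_mono hV)
        rw [hk a c V _ a' m i δ e _ le_rfl (hwd c m δ e V),
          sc_res (κ i) (le_refl (bmap 𝒴 (C.h i) ⁻¹ᵁ U)) le_rfl hV ((bmap 𝒴 (C.h i)).preimage_mono hV)]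
        refine (ms_res N (ξ' := a') (ξ := C.a i) (InducedCategory.homMk δ) (hwd c m δ e V)
          (h1.trans (hwd c m δ e U)) _ _).trans ?_
        refine (hk a c U x a' m i δ e _ h1 (h1.trans (hwd c m δ e U))).symm.trans ?_
        exact (ms_res N (ξ' := a') (ξ := a) (InducedCategory.homMk m) le_rfl h1 _ _).symm)
  have hK : ∀ a c U x, sc (K a c) (le_refl (bmap 𝒴 c ⁻¹ᵁ U)) x = k a c U x := fun a c U x => res_self _
  have hKm : ∀ {a a' : α} (c : f a ⟶ η) (m : f a' ⟶ f a) {i : C.ι} (δ : f a' ⟶ f (C.a i))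
      (_ : δ ≫ C.h i = m ≫ c) (U : (sch 𝒴 η).Opens) (x : Γ(M, U)) (V : (sch 𝒴 (f a)).Opens)
      (hV : V ≤ bmap 𝒴 c ⁻¹ᵁ U) (W : (sch 𝒴 (f a')).Opens) (hW : W ≤ bmap 𝒴 m ⁻¹ᵁ V)
      (wd : W ≤ bmap 𝒴 δ ⁻¹ᵁ (bmap 𝒴 (C.h i) ⁻¹ᵁ U)),
      ms N (ξ' := a') (ξ := a) (InducedCategory.homMk m) hW (sc (K a c) hV x) =
        ms N (ξ' := a') (ξ := C.a i) (InducedCategory.homMk δ) wd (sc (κ i) le_rfl x) := by
    intro a a' c m i δ e U x V hV W hW wd
    rw [← hk a c U x a' m i δ e W (hW.trans ((bmap 𝒴 m).preimage_mono hV)) wd, ← res_sc (K a c) le_rfl hV hV x,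
      hK]
    exact ms_res N (ξ' := a') (ξ := a) (InducedCategory.homMk m) hW _ hV _
  refine ⟨⟨M, hM, K, fun a c => ?_, fun {a' a} m c c' e U V W hV hW hW' x => ?_⟩⟩
  · obtain ⟨C', hC'⟩ := C.exists_pb h𝒴 hl c
    haveI : ∀ j, Flat (bmap 𝒴 (C'.h j)) := C'.flat
    refine isIso_of_pullback_family (fun j => bmap 𝒴 (C'.h j)) C'.surj _ fun j => ?_
    obtain ⟨i, δ, hδ⟩ := hC' j
    have e₁ : bmap 𝒴 (C'.h j) ≫ bmap 𝒴 c = bmap 𝒴 (C'.h j ≫ c) := (StMod.bmap_comp _ _).symm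
    have e₂ : bmap 𝒴 δ ≫ bmap 𝒴 (C.h i) = bmap 𝒴 (C'.h j ≫ c) := by rw [← StMod.bmap_comp, hδ]
    refine isIso_map_of_kcomp e₁ (k' := imap N (C'.h j) rfl) ?_
      (hN.1 (ξ' := C'.a j) (ξ := a) (InducedCategory.homMk (C'.h j)) rfl)
    have hh : kcomp e₁ (K a c) (imap N (C'.h j) rfl) = kcomp e₂ (κ i) (imap N δ rfl) := by
      refine push_ext fun U x => ?_
      rw [← sc_kcomp e₁ (K a c) (imap N (C'.h j) rfl) le_rfl (preimage_comp_le_helper e₁ U) le_rfl,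
        ← sc_kcomp e₂ (κ i) (imap N δ rfl) le_rfl (preimage_comp_le_helper e₂ U) le_rfl]
      exact hKm c (C'.h j) δ hδ U x _ le_rfl _ _ _
    rw [hh]
    exact cart_kcomp e₂ (hκ i) (hN.1 (ξ' := C'.a j) (ξ := C.a i) (InducedCategory.homMk δ) rfl)
  · subst e
    refine hext a' (m ≫ c) W _ _ fun a'' p i δ hd => ?_
    let Wp := bmap 𝒴 p ⁻¹ᵁ W
    have wd : Wp ≤ bmap 𝒴 δ ⁻¹ᵁ (bmap 𝒴 (C.h i) ⁻¹ᵁ U) :=
      ((bmap 𝒴 p).preimage_mono hW').trans (hwd (m ≫ c) p δ hd U)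
    have wp : Wp ≤ bmap 𝒴 (p ≫ m) ⁻¹ᵁ V :=
      ((bmap 𝒴 p).preimage_mono hW).trans (le_of_eq (le_comp p m V).symm)
    refine (ms_comp N (ξ'' := a'') (ξ' := a') (ξ := a) (InducedCategory.homMk p) (InducedCategory.homMk m)
      hW (le_refl Wp) wp _).trans ?_
    refine (hKm c (p ≫ m) δ (by rw [hd, Category.assoc]) U x V hV Wp wp wd).trans ?_
    exact (hKm (m ≫ c) p δ hd U x W hW' Wp le_rfl wd).symm
where
  preimage_comp_le_helper {X Y Z : Scheme.{u}} {g : Y ⟶ X} {g' : Z ⟶ Y} {h : Z ⟶ X} (e : g' ≫ g = h)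
      (U : X.Opens) : h ⁻¹ᵁ U ≤ g' ⁻¹ᵁ (g ⁻¹ᵁ U) := LimTop61.preimage_comp_le g g' e U

end Ext

/-- A quasi-coherent module on the full image of the family extends. -/
theorem exists_extension (h𝒴 : FibCat.IsFibGrpd 𝒴.p) (hl : Lifts f) (hC : ∀ η, Nonempty (Cov f η))
    {N : StMod.Mod (Ind 𝒴 f)} (hN : StMod.isQCoh (Ind 𝒴 f) N) :
    ∃ G : StMod.Mod 𝒴, StMod.isQCoh 𝒴 G ∧ Nonempty (rest f G ≅ N) := by
  let B : ∀ η, Bridge N η := fun η => (exists_bridge h𝒴 hl hC hN η).some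
  have key : ∀ {η' η : 𝒴.obj} (φ : η' ⟶ η) (U : (sch 𝒴 η).Opens) (x : Γ((B η).M, U)),
      ∃! n : Γ((B η').M, bmap 𝒴 φ ⁻¹ᵁ U), ∀ a (c : f a ⟶ η') (_ : True),
        sc ((B η').κ a c) (le_refl (bmap 𝒴 c ⁻¹ᵁ (bmap 𝒴 φ ⁻¹ᵁ U))) n =
          sc ((B η).κ a (c ≫ φ)) (le_of_eq (le_comp c φ U).symm) x := by
    intro η' η φ U x
    refine (B η').existsUnique_glue h𝒴 hN.1 hl (hC η').some (fun _ _ => True) (fun _ _ _ => trivial)
      (fun _ => trivial) (fun a c _ => sc ((B η).κ a (c ≫ φ)) (le_of_eq (le_comp c φ U).symm) x) ?_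
    intro a' a m c _ c' _ e W hW hW'
    subst e
    refine ((B η).comp m (c ≫ φ) ((m ≫ c) ≫ φ) (Category.assoc _ _ _).symm U _ W _ hW
      (hW'.trans (le_of_eq (le_comp _ _ _).symm)) x).trans ?_
    exact (res_sc _ _ _ hW' x).symm
  choose n hn hu using @key
  have hext : ∀ η (U : (sch 𝒴 η).Opens) (y y' : Γ((B η).M, U)), (∀ a (c : f a ⟶ η),
      sc ((B η).κ a c) le_rfl y = sc ((B η).κ a c) (le_refl (bmap 𝒴 c ⁻¹ᵁ U)) y') → y = y' :=
    fun η U y y' h => (B η).ext (hC η).some _ _ fun i => h _ _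
  have hle : ∀ {η' η : 𝒴.obj} (φ : η' ⟶ η) {a} (c : f a ⟶ η') (U : (sch 𝒴 η).Opens),
      bmap 𝒴 c ⁻¹ᵁ (bmap 𝒴 φ ⁻¹ᵁ U) ≤ bmap 𝒴 (c ≫ φ) ⁻¹ᵁ U := fun φ _ c U => le_of_eq (le_comp c φ U).symm
  let m : ∀ {η' η : 𝒴.obj} (φ : η' ⟶ η), (B η).M ⟶ (Scheme.Modules.pushforward (bmap 𝒴 φ)).obj (B η').M :=
    fun {η' η} φ => mkPush (n φ)
      (fun U x y => hext η' _ _ _ fun a c => by
        rw [hn φ U _ a c trivial, map_add, map_add, hn φ U x a c trivial, hn φ U y a c trivial])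
      (fun U r x => hext η' _ _ _ fun a c => by
        rw [hn φ U _ a c trivial, sc_smul, sc_smul, hn φ U x a c trivial]
        congr 1
        show _ = ((bmap 𝒴 φ).appLE U _ le_rfl ≫ (bmap 𝒴 c).appLE _ _ _) r
        rw [Scheme.Hom.appLE_comp_appLE]
        simp only [← StMod.bmap_comp])
      (fun {U V} hV x => hext η' _ _ _ fun a c => by
        have h1 : bmap 𝒴 c ⁻¹ᵁ (bmap 𝒴 φ ⁻¹ᵁ V) ≤ bmap 𝒴 c ⁻¹ᵁ (bmap 𝒴 φ ⁻¹ᵁ U) :=
          (bmap 𝒴 c).preimage_mono ((bmap 𝒴 φ).preimage_mono hV)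
        rw [hn φ V _ a c trivial, sc_res _ (hle φ c U) (hle φ c V) hV h1, ← hn φ U x a c trivial]
        exact (sc_res _ _ _ _ _ _).symm)
  have hm : ∀ {η' η : 𝒴.obj} (φ : η' ⟶ η) {a} (c : f a ⟶ η') {c' : f a ⟶ η} (_ : c ≫ φ = c')
      (U : (sch 𝒴 η).Opens) (x : Γ((B η).M, U)) (V : (sch 𝒴 η').Opens) (hV : V ≤ bmap 𝒴 φ ⁻¹ᵁ U)
      (W : (sch 𝒴 (f a)).Opens) (hW : W ≤ bmap 𝒴 c ⁻¹ᵁ V) (hW' : W ≤ bmap 𝒴 c' ⁻¹ᵁ U),
      sc ((B η').κ a c) hW (sc (m φ) hV x) = sc ((B η).κ a c') hW' x := by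
    intro η' η φ a c c' e U x V hV W hW hW'
    subst e
    have h1 : W ≤ bmap 𝒴 c ⁻¹ᵁ (bmap 𝒴 φ ⁻¹ᵁ U) := hW.trans ((bmap 𝒴 c).preimage_mono hV)
    refine (sc_res _ le_rfl hW hV h1 (n φ U x)).trans ?_
    refine (congrArg (res _ h1) (hn φ U x a c trivial)).trans (res_sc _ _ hW' h1 x)
  let G : StMod.Mod 𝒴 := mkMod (fun η => (B η).M) m
    (fun η U W h h' x => hext η W _ _ fun a c => by
      refine (hm (𝟙 η) c (Category.comp_id c) U x W h _ le_rfl ((bmap 𝒴 c).preimage_mono h')).trans ?_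
      rw [sc_res _ (le_refl (bmap 𝒴 c ⁻¹ᵁ U)) le_rfl h' ((bmap 𝒴 c).preimage_mono h'),
        res_sc _ _ ((bmap 𝒴 c).preimage_mono h')])
    (fun {η'' η' η} ψ φ U W hW hW' x => hext η'' W _ _ fun a c => by
      have w1 : bmap 𝒴 c ⁻¹ᵁ W ≤ bmap 𝒴 (c ≫ ψ ≫ φ) ⁻¹ᵁ U :=
        ((bmap 𝒴 c).preimage_mono hW').trans (le_of_eq (le_comp _ _ _).symm)
      have w2 : bmap 𝒴 c ⁻¹ᵁ W ≤ bmap 𝒴 (c ≫ ψ) ⁻¹ᵁ (bmap 𝒴 φ ⁻¹ᵁ U) :=
        ((bmap 𝒴 c).preimage_mono hW).trans (le_of_eq (le_comp _ _ _).symm)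
      rw [hm (ψ ≫ φ) c rfl U x W hW' _ le_rfl w1, hm ψ c rfl _ _ W hW _ le_rfl w2,
        hm φ (c ≫ ψ) (Category.assoc c ψ φ) U x _ le_rfl _ w2 w1])
  refine ⟨G, ⟨fun η' η φ g hg => ?_, fun η => (B η).qc⟩, ⟨?_⟩⟩
  · subst hg
    let C := (hC η').some
    haveI : ∀ j, Flat (bmap 𝒴 (C.h j)) := C.flat
    refine isIso_of_pullback_family (fun j => bmap 𝒴 (C.h j)) C.surj _ fun j => ?_
    have e : bmap 𝒴 (C.h j) ≫ bmap 𝒴 φ = bmap 𝒴 (C.h j ≫ φ) := (StMod.bmap_comp _ _).symm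
    refine isIso_map_of_kcomp e (k := m φ) (k' := (B η').κ (C.a j) (C.h j)) ?_ ((B η').cart _ _)
    have hh : kcomp e (m φ) ((B η').κ (C.a j) (C.h j)) = (B η).κ (C.a j) (C.h j ≫ φ) := by
      refine push_ext fun U x => ?_
      rw [← sc_kcomp e (m φ) _ le_rfl (LimTop61.preimage_comp_le _ _ e U) le_rfl]
      exact hm φ (C.h j) rfl U x _ le_rfl _ _ _
    rw [hh]
    exact (B η).cart _ _
  · have hone : ∀ (a : α) (U : (sch 𝒴 (f a)).Opens), U ≤ bmap 𝒴 (𝟙 (f a)) ⁻¹ᵁ U := fun a U => (le_id U).ge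
    let e : ∀ a : α, (B (f a)).M ⟶ N.obj a := fun a =>
      mkHom (fun U x => sc ((B (f a)).κ a (𝟙 _)) (hone a U) x)
        (fun U x y => map_add _ x y)
        (fun U r x => by
          rw [sc_smul]
          congr 1
          exact appLE_bmap_id (ξ := f a) (hone a U) r)
        (fun {U V} hV x => sc_res _ _ _ hV hV x)
    have he : ∀ (a a' : α) (c : f a' ⟶ f a) (U : (sch 𝒴 (f a)).Opens) (x : Γ((B (f a)).M, U))
        (W : (sch 𝒴 (f a')).Opens) (hW : W ≤ bmap 𝒴 c ⁻¹ᵁ U),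
        ms N (ξ' := a') (ξ := a) (InducedCategory.homMk c) hW ((e a).app U x) = sc ((B (f a)).κ a' c) hW x :=
      fun a a' c U x W hW => (B (f a)).comp c (𝟙 _) c (Category.comp_id c) U U W (hone a U) hW hW x
    have hbij : ∀ a U, Function.Bijective ((e a).app U) := by
      intro a U
      refine ⟨fun x x' h => hext (f a) U x x' fun a' c => ?_, fun y => ?_⟩
      · rw [← he a a' c U x _ le_rfl, ← he a a' c U x' _ le_rfl, h]
      · obtain ⟨x, hx, -⟩ := (B (f a)).existsUnique_glue h𝒴 hN.1 hl (hC (f a)).some (fun _ _ => True)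
          (fun _ _ _ => trivial) (fun _ => trivial)
          (fun a' c _ => ms N (ξ' := a') (ξ := a) (InducedCategory.homMk c) (le_refl (bmap 𝒴 c ⁻¹ᵁ U)) y)
          (fun {a'' a'} p c _ c' _ he' W hW hW' => by
            subst he'
            refine (ms_comp N (ξ'' := a'') (ξ' := a') (ξ := a) (InducedCategory.homMk p)
              (InducedCategory.homMk c) le_rfl hW hW' y).trans ?_
            exact (res_ms N (ξ' := a'') (ξ := a) (InducedCategory.homMk (p ≫ c)) le_rfl hW' hW' y).symm)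
        refine ⟨x, ?_⟩
        have h1 := congrArg (res (X := sch 𝒴 (f a)) (N.obj a) (hone a U)) (hx a (𝟙 _) trivial)
        rw [res_sc] at h1
        refine h1.trans ((res_ms N (ξ' := a) (ξ := a) (InducedCategory.homMk (𝟙 (f a))) le_rfl (hone a U)
          (hone a U) y).trans ?_)
        exact (ms_id N (ξ := a) (hone a U) (le_refl U) y).trans (res_self _)
    haveI : ∀ a, IsIso (e a) := fun a => isIso_of_app_bijective _ (hbij a)
    let u : rest f G ⟶ N := homOfMs (fun a => e a) fun a' a φ U x => by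
      refine Eq.trans ?_ (he a a' φ.hom U x _ le_rfl).symm
      exact hm φ.hom (𝟙 (f a')) (Category.id_comp φ.hom) U x _ le_rfl _ (hone a' _) le_rfl
    exact StMod.Mod.isoMk (fun a => asIso (e a)) fun a' a φ g hg => u.comm φ hg

end Groth.Agent.TwSh99
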