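import Groth.Agent.TwSh99.Slice
import Groth.Agent.FMK72.BaseChange
import Groth.Agent.Desc59.ModDesc
import Groth.Agent.QCqs72.Basic
import Mathlib.AlgebraicGeometry.Morphisms.Finite

/-!
Direct image of twisted modules from a banded gerbe over a finite scheme over the base.
-/

set_option autoImplicit false
set_option backward.isDefEq.respectTransparency false
set_option backward.isDefEq.respectTransparency.types false
set_option linter.style.haveILetI false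

noncomputable section

universe u

open CategoryTheory CategoryTheory.Limits AlgebraicGeometry TopologicalSpace Opposite
open Groth.Agent.QC70

namespace Groth.Agent.TwSh99

open StMod (sch bmap fibCat)
open TwSh (resTop charUnit)

/-- Comparison maps of direct images along affine morphisms are cartesian. -/
theorem cart_of_pushforward {P₁ P₂ Q₁ Q₂ : Scheme.{u}} {g' : Q₂ ⟶ Q₁} {f' : Q₂ ⟶ P₂} {f : Q₁ ⟶ P₁} {g : P₂ ⟶ P₁}
    (H : IsPullback g' f' f g) [IsAffineHom f] (F : Q₁.Modules) [F.IsQuasicoherent] {L : Q₂.Modules}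
    {k : F ⟶ (Scheme.Modules.pushforward g').obj L} (hk : Cart k)
    (m : (Scheme.Modules.pushforward f).obj F ⟶
      (Scheme.Modules.pushforward g).obj ((Scheme.Modules.pushforward f').obj L))
    (hm : ∀ (U : P₁.Opens) (x : Γ(F, f ⁻¹ᵁ U)) (h : f' ⁻¹ᵁ (g ⁻¹ᵁ U) ≤ g' ⁻¹ᵁ (f ⁻¹ᵁ U)),
      m.app U x = sc k h x) : Cart m := by
  haveI : IsIso (adj k) := hk
  let v : (Scheme.Modules.pushforward f).obj F ⟶
      (Scheme.Modules.pushforward g).obj ((Scheme.Modules.pushforward f').obj ((Scheme.Modules.pullback g').obj F)) :=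
    (Scheme.Modules.pushforward f).map ((Scheme.Modules.pullbackPushforwardAdjunction g').unit.app F) ≫
      (Scheme.Modules.pushforwardComp g' f).hom.app ((Scheme.Modules.pullback g').obj F) ≫
        (Scheme.Modules.pushforwardCongr H.w).hom.app ((Scheme.Modules.pullback g').obj F) ≫
        (Scheme.Modules.pushforwardComp f' g).inv.app ((Scheme.Modules.pullback g').obj F)
  haveI hv : IsIso (adj v) := FMK72.isIso_bcNat_app H.w.symm H.flip F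
  have e : m = v ≫ (Scheme.Modules.pushforward g).map ((Scheme.Modules.pushforward f').map (adj k)) := by
    refine Scheme.Modules.hom_ext _ _ fun U => ?_
    ext x
    have h : f' ⁻¹ᵁ (g ⁻¹ᵁ U) ≤ g' ⁻¹ᵁ (f ⁻¹ᵁ U) := le_of_eq (by
      rw [← Scheme.Hom.comp_preimage, ← H.w]; rfl)
    refine (hm U x h).trans ?_
    show _ = (adj k).app (f' ⁻¹ᵁ (g ⁻¹ᵁ U)) (res ((Scheme.Modules.pullback g').obj F) h
      (((Scheme.Modules.pullbackPushforwardAdjunction g').unit.app F).app (f ⁻¹ᵁ U) x))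
    exact (adj_unitSec k h x).symm
  show IsIso (adj m)
  rw [e, adj, Adjunction.homEquiv_naturality_right_symm]
  exact inferInstanceAs (IsIso (adj v ≫ (Scheme.Modules.pushforward f').map (adj k)))

theorem appLE_hom_congr {P Q : Scheme.{u}} {g g' : Q ⟶ P} (e : g = g') {U : P.Opens} {W : Q.Opens}
    (h : W ≤ g ⁻¹ᵁ U) (h' : W ≤ g' ⁻¹ᵁ U) (r : Γ(P, U)) : g.appLE U W h r = g'.appLE U W h' r := by
  subst e; rfl

variable {S : Scheme.{u}} {X : Over S} {𝒳 : AlgSt.Cat S} (π : 𝒳 ⥤ᵇ AlgSt.ofSch X) (η : (AlgSt.ofSch X).obj)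

/-- the structure map of an object to the base -/
def strMap (y : 𝒳.obj) : sch 𝒳 y ⟶ X.left := (eqToHom (π.w_obj y).symm ≫ (π.obj y).sec.down).left

/-- the projection of an object over an object of the base -/
def prK (x : (fibCat π η).obj) : sch 𝒳 x.left ⟶ η.base.left :=
  (eqToHom (π.w_obj x.left).symm ≫ x.hom.hom).left

theorem strMap_map {y' y : 𝒳.obj} (φ : y' ⟶ y) : bmap 𝒳 φ ≫ strMap π y = strMap π y' := by
  have h : (π.map φ).hom ≫ (π.obj y).sec.down = (π.obj y').sec.down := congrArg ULift.down (π.map φ).map_sec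
  rw [base_map] at h
  show (𝒳.p.map φ ≫ eqToHom (π.w_obj y).symm ≫ (π.obj y).sec.down).left = _
  rw [strMap, ← h]
  simp

theorem prK_map {x' x : (fibCat π η).obj} (c : x' ⟶ x) : bmap 𝒳 c.left ≫ prK π η x = prK π η x' := by
  have h : (π.map c.left ≫ x.hom).hom = x'.hom.hom := congrArg (fun m => m.hom) (CostructuredArrow.w c)
  rw [Stk.EltObj.comp_hom, base_map] at h
  show (𝒳.p.map c.left ≫ eqToHom (π.w_obj x.left).symm ≫ x.hom.hom).left = _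
  rw [prK, ← h]
  simp

/-- an inverse image of an object to the category over an object of the base -/
structure Pb (y : 𝒳.obj) where
  obj : (fibCat π η).obj
  φ : obj.left ⟶ y
  isPb : IsPullback (bmap 𝒳 φ) (prK π η obj) (strMap π y) η.sec.down.left

theorem exists_pb (h𝒳 : FibCat.IsFibGrpd 𝒳.p) (y : 𝒳.obj) : Nonempty (Pb π η y) := by
  let k : η.base.left ⟶ X.left := η.sec.down.left
  obtain ⟨z, φ, r, hr, hφ⟩ := exists_lift_sch h𝒳 y (pullback (strMap π y) k) (pullback.fst (strMap π y) k)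
  let g₀ : sch 𝒳 z ⟶ η.base.left := r ≫ pullback.snd (strMap π y) k
  have hg₀ : g₀ ≫ k = strMap π z := by
    rw [← strMap_map π φ, hφ, Category.assoc, Category.assoc, pullback.condition]
  have hw : g₀ ≫ η.base.hom = (𝒳.p.obj z).hom := by
    rw [← Over.w η.sec.down, ← Category.assoc]
    show (g₀ ≫ k) ≫ X.hom = _
    rw [hg₀, strMap, Over.w]
  let g : (π.obj z).base ⟶ η.base := eqToHom (π.w_obj z) ≫ Over.homMk g₀ hw
  have hsec : g ≫ η.sec.down = (π.obj z).sec.down := by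
    have h1 : (Over.homMk g₀ hw : 𝒳.p.obj z ⟶ η.base) ≫ η.sec.down =
        eqToHom (π.w_obj z).symm ≫ (π.obj z).sec.down := Over.OverMorphism.ext hg₀
    show (eqToHom (π.w_obj z) ≫ Over.homMk g₀ hw) ≫ η.sec.down = _
    rw [Category.assoc, h1]
    simp
  let x : (fibCat π η).obj := CostructuredArrow.mk (⟨g, ULift.ext _ _ hsec⟩ : π.obj z ⟶ η)
  have hp : prK π η x = g₀ := by
    show (eqToHom (π.w_obj z).symm ≫ eqToHom (π.w_obj z) ≫ Over.homMk g₀ hw).left = _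
    simp
  refine ⟨⟨x, φ, ?_⟩⟩
  rw [hp, hφ]
  haveI := hr
  exact (IsPullback.of_hasPullback (strMap π y) k).of_iso (asIso r).symm (Iso.refl _) (Iso.refl _) (Iso.refl _)
    (by simp) (by simp [g₀]) (by simp) (by simp [k])

variable {π η} (h𝒳 : FibCat.IsFibGrpd 𝒳.p)
include h𝒳

theorem exists_pbMap {y' y : 𝒳.obj} (P' : Pb π η y') (P : Pb π η y) (χ : y' ⟶ y) :
    ∃ c : P'.obj ⟶ P.obj, c.left ≫ P.φ = P'.φ ≫ χ := by
  let g := P.isPb.lift (bmap 𝒳 P'.φ ≫ bmap 𝒳 χ) (prK π η P'.obj) (by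
    rw [Category.assoc, strMap_map]; exact P'.isPb.w)
  obtain ⟨c, hc, hcφ⟩ := exists_fac_sch h𝒳 P.φ (P'.φ ≫ χ) g (by
    rw [StMod.bmap_comp]; exact P.isPb.lift_fst _ _ _)
  refine ⟨CostructuredArrow.homMk c ?_, hcφ⟩
  refine ofSch_hom_ext (Over.OverMorphism.ext ?_)
  have h1 : bmap 𝒳 c ≫ prK π η P.obj = prK π η P'.obj := by rw [hc]; exact P.isPb.lift_snd _ _ _
  rw [Stk.EltObj.comp_hom, base_map]
  refine Eq.trans ?_ (show (eqToHom (π.w_obj P'.obj.left)).left ≫ prK π η P'.obj = P'.obj.hom.hom.left by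
    rw [prK, ← Over.comp_left]; simp)
  rw [← h1, prK]
  simp [bmap]

theorem pbMap_unique {y : 𝒳.obj} {x : (fibCat π η).obj} (P : Pb π η y) {c c' : x ⟶ P.obj}
    (h : c.left ≫ P.φ = c'.left ≫ P.φ) : c = c' := by
  refine CostructuredArrow.hom_ext _ _ (hom_ext_sch h𝒳 P.φ (P.isPb.hom_ext ?_ ?_) h)
  · rw [← StMod.bmap_comp, ← StMod.bmap_comp, h]
  · rw [prK_map, prK_map]

theorem isPullback_pbMap {y' y : 𝒳.obj} (P' : Pb π η y') (P : Pb π η y) (χ : y' ⟶ y) (c : P'.obj ⟶ P.obj)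
    (hc : c.left ≫ P.φ = P'.φ ≫ χ) :
    IsPullback (bmap 𝒳 c.left) (bmap 𝒳 P'.φ) (bmap 𝒳 P.φ) (bmap 𝒳 χ) := by
  have hw : bmap 𝒳 c.left ≫ bmap 𝒳 P.φ = bmap 𝒳 P'.φ ≫ bmap 𝒳 χ := by
    rw [← StMod.bmap_comp, ← StMod.bmap_comp, hc]
  refine IsPullback.flip (IsPullback.of_bot ?_ hw.symm P.isPb)
  rw [strMap_map, prK_map]
  exact P'.isPb

omit h𝒳 in
theorem isFinite_pb [IsFinite η.sec.down.left] {y : 𝒳.obj} (P : Pb π η y) : IsFinite (bmap 𝒳 P.φ) :=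
  MorphismProperty.of_isPullback (P := @IsFinite) P.isPb.flip ‹_›

section Push

variable [IsFinite η.sec.down.left] (G : StMod.Mod (fibCat π η)) (P : ∀ y : 𝒳.obj, Pb π η y)

/-- the morphism of inverse images over a morphism -/
def pbMap {y' y : 𝒳.obj} (χ : y' ⟶ y) : (P y').obj ⟶ (P y).obj := (exists_pbMap h𝒳 (P y') (P y) χ).choose

omit [IsFinite η.sec.down.left] in
theorem pbMap_spec {y' y : 𝒳.obj} (χ : y' ⟶ y) : (pbMap h𝒳 P χ).left ≫ (P y).φ = (P y').φ ≫ χ :=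
  (exists_pbMap h𝒳 (P y') (P y) χ).choose_spec

omit [IsFinite η.sec.down.left] in
theorem pbMap_eq {y' y : 𝒳.obj} (χ : y' ⟶ y) (c : (P y').obj ⟶ (P y).obj)
    (h : c.left ≫ (P y).φ = (P y').φ ≫ χ) : pbMap h𝒳 P χ = c :=
  pbMap_unique h𝒳 (P y) ((pbMap_spec h𝒳 P χ).trans h.symm)

omit [IsFinite η.sec.down.left] in
theorem pbMap_le {y' y : 𝒳.obj} (χ : y' ⟶ y) (U : (sch 𝒳 y).Opens) :
    bmap 𝒳 (P y').φ ⁻¹ᵁ (bmap 𝒳 χ ⁻¹ᵁ U) = bmap (fibCat π η) (pbMap h𝒳 P χ) ⁻¹ᵁ (bmap 𝒳 (P y).φ ⁻¹ᵁ U) := by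
  rw [← Scheme.Hom.comp_preimage, ← Scheme.Hom.comp_preimage, ← (isPullback_pbMap h𝒳 _ _ χ _ (pbMap_spec h𝒳 P χ)).w]
  rfl

/-- the comparison map of the direct image -/
def pushMap {y' y : 𝒳.obj} (χ : y' ⟶ y) :
    (Scheme.Modules.pushforward (bmap 𝒳 (P y).φ)).obj (G.obj (P y).obj) ⟶
      (Scheme.Modules.pushforward (bmap 𝒳 χ)).obj
        ((Scheme.Modules.pushforward (bmap 𝒳 (P y').φ)).obj (G.obj (P y').obj)) :=
  mkPush (fun U x => ms G (pbMap h𝒳 P χ) (pbMap_le h𝒳 P χ U).le x)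
    (fun U x x' => map_add _ _ _)
    (fun U r x => by
      refine (ms_smul G _ _ ((bmap 𝒳 (P y).φ).app U r) x).trans ?_
      refine congrArg (fun t => t • _) ?_
      rw [Scheme.Hom.app_eq_appLE]
      show ((bmap 𝒳 (P y).φ).appLE U _ le_rfl ≫ (bmap (fibCat π η) (pbMap h𝒳 P χ)).appLE _ _ _) r = _
      rw [Scheme.Hom.appLE_comp_appLE]
      show _ = ((bmap 𝒳 χ).appLE U _ le_rfl ≫ (bmap 𝒳 (P y').φ).app _) r
      rw [Scheme.Hom.app_eq_appLE, Scheme.Hom.appLE_comp_appLE]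
      exact appLE_hom_congr (isPullback_pbMap h𝒳 _ _ χ _ (pbMap_spec h𝒳 P χ)).w _ _ r)
    (fun {U V} hV x => by
      refine (ms_res G _ _ ((pbMap_le h𝒳 P χ V).le.trans (Scheme.Hom.preimage_mono _
        ((bmap 𝒳 (P y).φ).preimage_mono hV))) ((bmap 𝒳 (P y).φ).preimage_mono hV) x).trans ?_
      exact (res_ms G (pbMap h𝒳 P χ) (pbMap_le h𝒳 P χ U).le _
        ((bmap 𝒳 (P y').φ).preimage_mono ((bmap 𝒳 χ).preimage_mono hV)) x).symm)

omit [IsFinite η.sec.down.left] in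
theorem sc_pushMap {y' y : 𝒳.obj} (χ : y' ⟶ y) {U : (sch 𝒳 y).Opens} {W : (sch 𝒳 y').Opens}
    (h : W ≤ bmap 𝒳 χ ⁻¹ᵁ U)
    (h' : bmap 𝒳 (P y').φ ⁻¹ᵁ W ≤ bmap (fibCat π η) (pbMap h𝒳 P χ) ⁻¹ᵁ (bmap 𝒳 (P y).φ ⁻¹ᵁ U))
    (x : Γ(G.obj (P y).obj, bmap 𝒳 (P y).φ ⁻¹ᵁ U)) :
    sc (pushMap h𝒳 G P χ) h x = ms G (pbMap h𝒳 P χ) h' x := by
  exact res_ms G (pbMap h𝒳 P χ) (pbMap_le h𝒳 P χ U).le h' ((bmap 𝒳 (P y').φ).preimage_mono h) x

/-- the direct image -/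
def pushK : StMod.Mod 𝒳 :=
  mkMod (fun y => (Scheme.Modules.pushforward (bmap 𝒳 (P y).φ)).obj (G.obj (P y).obj))
    (fun χ => pushMap h𝒳 G P χ)
    (fun y U W h h' x => by
      have hid : pbMap h𝒳 P (𝟙 y) = 𝟙 (P y).obj :=
        pbMap_eq h𝒳 P _ _ ((Category.id_comp _).trans (Category.comp_id _).symm)
      have h1 : bmap 𝒳 (P y).φ ⁻¹ᵁ W ≤ bmap 𝒳 (P y).φ ⁻¹ᵁ U := (bmap 𝒳 (P y).φ).preimage_mono h'
      refine (sc_pushMap h𝒳 G P _ h (by rw [hid, StMod.bmap_id]; exact h1) x).trans ?_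
      refine (ms_congr G hid _ (by rw [StMod.bmap_id]; exact h1) x).trans ?_
      exact ms_id G _ h1 x)
    (fun {y'' y' y} ψ χ U W hW hW' x => by
      have hc : pbMap h𝒳 P (ψ ≫ χ) = pbMap h𝒳 P ψ ≫ pbMap h𝒳 P χ := pbMap_eq h𝒳 P _ _ (by
        show ((pbMap h𝒳 P ψ).left ≫ (pbMap h𝒳 P χ).left) ≫ _ = _
        rw [Category.assoc, pbMap_spec, ← Category.assoc, pbMap_spec, Category.assoc])
      have h1 := ((bmap 𝒳 (P y'').φ).preimage_mono hW).trans (pbMap_le h𝒳 P ψ (bmap 𝒳 χ ⁻¹ᵁ U)).le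
      have h2 := ((bmap 𝒳 (P y'').φ).preimage_mono hW').trans (pbMap_le h𝒳 P (ψ ≫ χ) U).le
      refine (sc_pushMap h𝒳 G P ψ hW h1 _).trans ?_
      refine Eq.trans ?_ (sc_pushMap h𝒳 G P (ψ ≫ χ) hW' h2 x).symm
      refine (congrArg (ms G (pbMap h𝒳 P ψ) h1)
        (sc_pushMap h𝒳 G P χ (le_refl _) (pbMap_le h𝒳 P χ U).le x)).trans ?_
      refine (ms_comp G _ _ _ h1 (by rw [← hc]; exact h2) x).trans ?_
      exact ms_congr G hc.symm _ _ x)

omit [IsFinite η.sec.down.left] in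
theorem pushMap_app {y' y : 𝒳.obj} (χ : y' ⟶ y) (U : (sch 𝒳 y).Opens)
    (x : Γ(G.obj (P y).obj, bmap 𝒳 (P y).φ ⁻¹ᵁ U)) :
    (pushMap h𝒳 G P χ).app U x = sc (G.map (pbMap h𝒳 P χ) rfl) (pbMap_le h𝒳 P χ U).le x :=
  (sc_self (pushMap h𝒳 G P χ) x).symm.trans
    (sc_pushMap h𝒳 G P χ (le_refl _) (pbMap_le h𝒳 P χ U).le x)

theorem isQCoh_pushK (hG : StMod.isQCoh (fibCat π η) G) : StMod.isQCoh 𝒳 (pushK h𝒳 G P) := by
  refine ⟨fun y' y χ g hg => ?_, fun y => ?_⟩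
  · subst hg
    haveI := isFinite_pb (P y)
    haveI : (G.obj (P y).obj).IsQuasicoherent := hG.2 _
    have hk : Cart (G.map (pbMap h𝒳 P χ) rfl) := cart_map hG.1 (pbMap h𝒳 P χ) rfl
    suffices h : Cart (pushMap h𝒳 G P χ) from h
    refine cart_of_pushforward (isPullback_pbMap h𝒳 _ _ χ _ (pbMap_spec h𝒳 P χ)) (G.obj (P y).obj)
      (k := G.map (pbMap h𝒳 P χ) rfl) hk _ fun U x h => ?_
    exact pushMap_app h𝒳 G P χ U x
  · haveI := isFinite_pb (P y)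
    haveI : (G.obj (P y).obj).IsQuasicoherent := hG.2 _
    exact QCqs72.isQuasicoherent_pushforward (M := G.obj (P y).obj) (bmap 𝒳 (P y).φ)

theorem isFinType_pushK (hG : StMod.isQCoh (fibCat π η) G) (hf : G.IsFinType) : (pushK h𝒳 G P).IsFinType := by
  intro y
  haveI := isFinite_pb (P y)
  haveI : (G.obj (P y).obj).IsQuasicoherent := hG.2 _
  exact (Desc59.ModDesc.isFiniteType_of_affineCover_preimage (bmap 𝒳 (P y).φ) (G.obj (P y).obj)).1 (hf _)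

theorem isTwisted_pushK {A : (Over S)ᵒᵖ ⥤ GrpCat.{u}} {χ₀ : A ⟶ TwSh.GmPsh S} (ι : TwSh.BandHom 𝒳 A)
    (hι : ∀ (ξ : 𝒳.obj) (a : A.obj (op (𝒳.p.obj ξ))), π.map (ι.hom ξ a).hom.1 = 𝟙 _)
    (hG : TwSh.IsTwisted G (TwSh.BandHom.fib π η ι hι) χ₀ 1) : TwSh.IsTwisted (pushK h𝒳 G P) ι χ₀ 1 := by
  intro y a U x
  let a' : A.obj (op (𝒳.p.obj (P y).obj.left)) := A.map (𝒳.p.map (P y).φ).op a
  have hc : pbMap h𝒳 P (band ι y a) = band (TwSh.BandHom.fib π η ι hι) (P y).obj a' :=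
    pbMap_eq h𝒳 P _ _ (ι.natural (P y).φ a)
  rw [TwSh.inert_app_apply]
  have hU : U ≤ bmap 𝒳 (band ι y a) ⁻¹ᵁ U := by rw [bmap_band]; exact le_rfl
  rw [← sc_self ((pushK h𝒳 G P).map (band ι y a) (bmap_band ι y a)),
    ms_of_eq (pushK h𝒳 G P) (band ι y a) (bmap_band ι y a) (le_refl _) hU]
  have h1 := ((bmap 𝒳 (P y).φ).preimage_mono hU).trans (pbMap_le h𝒳 P (band ι y a) U).le
  have h2 : bmap 𝒳 (P y).φ ⁻¹ᵁ U ≤
      bmap (fibCat π η) (band (TwSh.BandHom.fib π η ι hι) (P y).obj a') ⁻¹ᵁ (bmap 𝒳 (P y).φ ⁻¹ᵁ U) := by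
    rw [← hc]; exact h1
  refine (sc_pushMap h𝒳 G P (band ι y a) hU h1 x).trans ((ms_congr G hc h1 h2 x).trans ?_)
  refine (ms_band hG (P y).obj a' h2 le_rfl x).trans ?_
  rw [res_self]
  have h3 : resTop (sch 𝒳 (P y).obj.left) (bmap 𝒳 (P y).φ ⁻¹ᵁ U) (tw χ₀ (P y).obj.left a').val =
      (bmap 𝒳 (P y).φ).app U (resTop (sch 𝒳 y) U (tw χ₀ y a).val) := by
    rw [← appTop_tw χ₀ (P y).φ a, Scheme.Hom.app_eq_appLE, appLE_resTop]
  exact congrArg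
    (fun (t : Γ(sch (fibCat π η) (P y).obj, bmap 𝒳 (P y).φ ⁻¹ᵁ U)) =>
      t • (show Γ(G.obj (P y).obj, bmap 𝒳 (P y).φ ⁻¹ᵁ U) from x)) h3

end Push

end Groth.Agent.TwSh99
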