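import Groth.Agent.Desc59.QEff.Glue
import Groth.Agent.Desc59.QCohDesc

/-!
Semilinear comparison maps of modules on schemes, on sections: composition, cartesianness, descent of sections.
-/

set_option autoImplicit false
set_option backward.isDefEq.respectTransparency false
set_option backward.isDefEq.respectTransparency.types false
set_option linter.style.haveILetI false

noncomputable section

universe u

open CategoryTheory Limits AlgebraicGeometry TopologicalSpace Opposite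
open Groth.Agent.QC70 Groth.Agent.QCPull72 Groth.Agent.LimTop61

namespace Groth.Agent.TwSh99

open Desc59

section Basic

variable {P Q R : Scheme.{u}} {g : Q ⟶ P} {g' : R ⟶ Q} {h : R ⟶ P}
  {M : P.Modules} {L : Q.Modules} {L' : R.Modules}

/-- a comparison map on sections -/
def sc (k : M ⟶ (Scheme.Modules.pushforward g).obj L) {U : P.Opens} {W : Q.Opens} (hW : W ≤ g ⁻¹ᵁ U) :
    Γ(M, U) →+ Γ(L, W) :=
  AddMonoidHom.mk' (fun x => res L hW (k.app U x)) fun x y =>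
    (congrArg (res L hW) (map_add (k.app U).hom x y)).trans (res_add _ _ _)

theorem sc_apply (k : M ⟶ (Scheme.Modules.pushforward g).obj L) {U : P.Opens} {W : Q.Opens} (hW : W ≤ g ⁻¹ᵁ U)
    (x : Γ(M, U)) : sc k hW x = res L hW (k.app U x) := rfl

theorem sc_self (k : M ⟶ (Scheme.Modules.pushforward g).obj L) {U : P.Opens} (x : Γ(M, U)) :
    sc k (le_refl (g ⁻¹ᵁ U)) x = k.app U x := res_self _

/-- the adjoint of a comparison map -/
def adj (k : M ⟶ (Scheme.Modules.pushforward g).obj L) : (Scheme.Modules.pullback g).obj M ⟶ L :=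
  ((Scheme.Modules.pullbackPushforwardAdjunction g).homEquiv _ _).symm k

theorem adj_unitSec (k : M ⟶ (Scheme.Modules.pushforward g).obj L) {U : P.Opens} {W : Q.Opens}
    (hW : W ≤ g ⁻¹ᵁ U) (x : Γ(M, U)) : (adj k).app W (unitSec g M hW x) = sc k hW x := by
  rw [unitSec, app_res]
  have h1 := ((Scheme.Modules.pullbackPushforwardAdjunction g).homEquiv _ _).apply_symm_apply k
  rw [Adjunction.homEquiv_unit] at h1
  exact congrArg _ congr(Scheme.Modules.Hom.app $h1 U x)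

theorem sc_smul (k : M ⟶ (Scheme.Modules.pushforward g).obj L) {U : P.Opens} {W : Q.Opens} (hW : W ≤ g ⁻¹ᵁ U)
    (r : Γ(P, U)) (x : Γ(M, U)) : sc k hW (r • x) = g.appLE U W hW r • sc k hW x := by
  rw [← adj_unitSec, unitSec_smul, Scheme.Modules.Hom.app_smul, adj_unitSec]

theorem sc_res (k : M ⟶ (Scheme.Modules.pushforward g).obj L) {U U' : P.Opens} {W W' : Q.Opens}
    (hW : W ≤ g ⁻¹ᵁ U) (hW' : W' ≤ g ⁻¹ᵁ U') (hU : U' ≤ U) (hWW : W' ≤ W) (x : Γ(M, U)) :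
    sc k hW' (res M hU x) = res L hWW (sc k hW x) := by
  rw [← adj_unitSec, ← adj_unitSec, unitSec_res g M hW hW' hU hWW, app_res]

theorem res_sc (k : M ⟶ (Scheme.Modules.pushforward g).obj L) {U : P.Opens} {W W' : Q.Opens}
    (hW : W ≤ g ⁻¹ᵁ U) (hW' : W' ≤ g ⁻¹ᵁ U) (hWW : W' ≤ W) (x : Γ(M, U)) :
    res L hWW (sc k hW x) = sc k hW' x := res_res _ _ _

/-- A morphism of modules from maps on all sections. -/
def mkHom {X : Scheme.{u}} {A B : X.Modules} (a : ∀ U : X.Opens, Γ(A, U) → Γ(B, U))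
    (hadd : ∀ U x y, a U (x + y) = a U x + a U y) (hsmul : ∀ U (r : Γ(X, U)) x, a U (r • x) = r • a U x)
    (hres : ∀ {U V : X.Opens} (hV : V ≤ U) x, a V (res A hV x) = res B hV (a U x)) : A ⟶ B :=
  ⟨PresheafOfModules.homMk
    { app := fun W => AddCommGrpCat.ofHom (AddMonoidHom.mk' (a W.unop) (hadd W.unop))
      naturality := fun {V W} i => by
        ext s
        exact hres i.unop.le s }
    (fun W r m => hsmul W.unop r m)⟩

@[simp]
theorem mkHom_app {X : Scheme.{u}} {A B : X.Modules} (a : ∀ U : X.Opens, Γ(A, U) → Γ(B, U)) (hadd) (hsmul) (hres)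
    (U : X.Opens) (x : Γ(A, U)) : (mkHom a hadd hsmul hres).app U x = a U x := rfl

/-- A comparison map from semilinear maps on all sections. -/
def mkPush (a : ∀ U : P.Opens, Γ(M, U) → Γ(L, g ⁻¹ᵁ U))
    (hadd : ∀ U x y, a U (x + y) = a U x + a U y)
    (hsmul : ∀ U (r : Γ(P, U)) x, a U (r • x) = g.appLE U (g ⁻¹ᵁ U) le_rfl r • a U x)
    (hres : ∀ {U V : P.Opens} (hV : V ≤ U) x, a V (res M hV x) = res L (g.preimage_mono hV) (a U x)) :
    M ⟶ (Scheme.Modules.pushforward g).obj L :=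
  mkHom a hadd (fun U r x => by
    refine (hsmul U r x).trans ?_
    rw [← Scheme.Hom.app_eq_appLE]
    rfl) hres

theorem sc_mkPush (a : ∀ U : P.Opens, Γ(M, U) → Γ(L, g ⁻¹ᵁ U)) (hadd) (hsmul) (hres) {U : P.Opens} {W : Q.Opens}
    (hW : W ≤ g ⁻¹ᵁ U) (x : Γ(M, U)) : sc (mkPush (M := M) a hadd hsmul hres) hW x = res L hW (a U x) := rfl

theorem push_ext {k k' : M ⟶ (Scheme.Modules.pushforward g).obj L}
    (e : ∀ (U : P.Opens) (x : Γ(M, U)), sc k (le_refl (g ⁻¹ᵁ U)) x = sc k' (le_refl (g ⁻¹ᵁ U)) x) : k = k' := by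
  refine Scheme.Modules.hom_ext _ _ fun U => ?_
  ext x
  have := e U x
  rwa [sc_self, sc_self] at this

/-- cartesianness of a comparison map -/
def Cart (k : M ⟶ (Scheme.Modules.pushforward g).obj L) : Prop := IsIso (adj k)

/-- composite of comparison maps -/
def kcomp (e : g' ≫ g = h) (k : M ⟶ (Scheme.Modules.pushforward g).obj L)
    (k' : L ⟶ (Scheme.Modules.pushforward g').obj L') : M ⟶ (Scheme.Modules.pushforward h).obj L' :=
  mkPush (fun U x => sc k' (preimage_comp_le g g' e U) (sc k (le_refl (g ⁻¹ᵁ U)) x))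
    (fun U x y => by rw [map_add, map_add])
    (fun U r x => by
      rw [sc_smul, sc_smul]
      congr 1
      subst e
      show (g.appLE U _ le_rfl ≫ g'.appLE _ _ (preimage_comp_le g g' rfl U)) r = _
      rw [Scheme.Hom.appLE_comp_appLE])
    (fun {U V} hV x => by
      rw [sc_res k (le_refl (g ⁻¹ᵁ U)) (le_refl (g ⁻¹ᵁ V)) hV (g.preimage_mono hV),
        sc_res k' (preimage_comp_le g g' e U) (preimage_comp_le g g' e V) (g.preimage_mono hV) (h.preimage_mono hV)])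

theorem sc_kcomp (e : g' ≫ g = h) (k : M ⟶ (Scheme.Modules.pushforward g).obj L)
    (k' : L ⟶ (Scheme.Modules.pushforward g').obj L') {U : P.Opens} {V : Q.Opens} {W : R.Opens}
    (hV : V ≤ g ⁻¹ᵁ U) (hW : W ≤ g' ⁻¹ᵁ V) (hW' : W ≤ h ⁻¹ᵁ U) (x : Γ(M, U)) :
    sc k' hW (sc k hV x) = sc (kcomp e k k') hW' x := by
  rw [kcomp, sc_mkPush, res_sc k' (preimage_comp_le g g' e U) (hW'.trans (preimage_comp_le g g' e U)) hW',
    ← res_sc k (le_refl (g ⁻¹ᵁ U)) hV hV x,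
    sc_res k' (hW'.trans (preimage_comp_le g g' e U)) hW hV (le_refl W), res_self]

theorem adj_kcomp (e : g' ≫ g = h) (k : M ⟶ (Scheme.Modules.pushforward g).obj L)
    (k' : L ⟶ (Scheme.Modules.pushforward g').obj L') :
    adj (kcomp e k k') =
      (pullbackCompIso g g' e).inv.app M ≫ (Scheme.Modules.pullback g').map (adj k) ≫ adj k' := by
  refine QEff.hom_ext_unitSec h fun U x => ?_
  rw [adj_unitSec, Scheme.Modules.Hom.comp_app, Scheme.Modules.Hom.comp_app, ConcreteCategory.comp_apply,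
    ConcreteCategory.comp_apply, QEff.pci_inv_unitSec e M (preimage_comp_le g g' e U)]
  refine (sc_kcomp e k k' (le_refl (g ⁻¹ᵁ U)) (preimage_comp_le g g' e U) (le_refl _) x).symm.trans ?_
  refine (adj_unitSec k' _ _).symm.trans (congrArg ((adj k').app (h ⁻¹ᵁ U)) ?_)
  refine ((QEff.pullback_map_unitSec g' (adj k) _ _).trans (congrArg (unitSec g' L _) ?_)).symm
  exact adj_unitSec k _ x

theorem cart_kcomp (e : g' ≫ g = h) {k : M ⟶ (Scheme.Modules.pushforward g).obj L}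
    {k' : L ⟶ (Scheme.Modules.pushforward g').obj L'} (hk : Cart k) (hk' : Cart k') : Cart (kcomp e k k') := by
  haveI : IsIso (adj k) := hk
  haveI : IsIso (adj k') := hk'
  rw [Cart, adj_kcomp]
  infer_instance

theorem isIso_map_of_kcomp (e : g' ≫ g = h) {k : M ⟶ (Scheme.Modules.pushforward g).obj L}
    {k' : L ⟶ (Scheme.Modules.pushforward g').obj L'} (hk : Cart (kcomp e k k')) (hk' : Cart k') :
    IsIso ((Scheme.Modules.pullback g').map (adj k)) := by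
  haveI : IsIso (adj k') := hk'
  have h1 : IsIso (adj (kcomp e k k')) := hk
  rw [adj_kcomp] at h1
  haveI := h1
  haveI : IsIso ((Scheme.Modules.pullback g').map (adj k) ≫ adj k') :=
    IsIso.of_isIso_comp_left ((pullbackCompIso g g' e).inv.app M) _
  exact IsIso.of_isIso_comp_right _ (adj k')

end Basic

section Family

variable {ι : Type*} {P : Scheme.{u}} {Q : ι → Scheme.{u}} (q : ∀ i, Q i ⟶ P)

theorem isIso_of_pullback_family [∀ i, Flat (q i)] (hs : ∀ x, ∃ i y, q i y = x) {A B : P.Modules} (u : A ⟶ B)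
    (h : ∀ i, IsIso ((Scheme.Modules.pullback (q i)).map u)) : IsIso u := by
  refine isIso_of_bijective_stalkMapM u fun x => ?_
  obtain ⟨i, y, rfl⟩ := hs x
  haveI := h i
  exact ⟨(QCohDesc.stalk_iff (q i) u y).1.mp (injective_stalkMapM_of_mono _ y),
    (QCohDesc.stalk_iff (q i) u y).2.mp (surjective_stalkMapM_of_epi _ y)⟩

variable {M : P.Modules} {L : ∀ i, (Q i).Modules}
  (k : ∀ i, M ⟶ (Scheme.Modules.pushforward (q i)).obj (L i))

/-- Sections are determined by their images along a jointly surjective flat cartesian family. -/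
theorem sc_ext [∀ i, Flat (q i)] (hk : ∀ i, Cart (k i)) {U : P.Opens} (hs : ∀ x ∈ U, ∃ i y, q i y = x)
    (n n' : Γ(M, U))
    (h : ∀ i, sc (k i) (le_refl (q i ⁻¹ᵁ U)) n = sc (k i) (le_refl (q i ⁻¹ᵁ U)) n') : n = n' := by
  refine QSheaf.unitSec_ext q M hs n n' fun i => ?_
  haveI : IsIso (adj (k i)) := hk i
  refine app_injective_of_mono (adj (k i)) _ ?_
  rw [adj_unitSec, adj_unitSec, h i]

theorem app_inv_app {X : Scheme.{u}} {A B : X.Modules} (φ : A ⟶ B) [IsIso φ] (U : X.Opens) (y : Γ(B, U)) :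
    φ.app U ((inv φ).app U y) = y :=
  congr(Scheme.Modules.Hom.app $(IsIso.inv_hom_id φ) U y)

end Family

theorem res_app_unitSec {T Z : Scheme.{u}} {r : Z ⟶ T} {N : T.Modules} {K : Z.Modules}
    (Φ : (Scheme.Modules.pullback r).obj N ⟶ K) {V V' : T.Opens} {W W' : Z.Opens} (hW : W ≤ r ⁻¹ᵁ V)
    (hW' : W' ≤ r ⁻¹ᵁ V') (hV : V' ≤ V) (hWW : W' ≤ W) (z : Γ(N, V)) :
    res K hWW (Φ.app W (unitSec r N hW z)) = Φ.app W' (unitSec r N hW' (res N hV z)) := by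
  rw [unitSec_res r N hW hW' hV hWW, app_res]

section Key

variable {P Q₀ T Z : Scheme.{u}} {M : P.Modules} {L₀ : Q₀.Modules} {K : Z.Modules} (ql : Q₀ ⟶ P)
  (kl : M ⟶ (Scheme.Modules.pushforward ql).obj L₀) (t : T ⟶ P) (r : Z ⟶ T) (c : T ⟶ Q₀) (ec : c ≫ ql = t)
  (kab : M ⟶ (Scheme.Modules.pushforward (r ≫ t)).obj K) (kc : L₀ ⟶ (Scheme.Modules.pushforward (r ≫ c)).obj K)

/-- reading the transition of a section through a test comparison -/
def readMap : (Scheme.Modules.pullback ql).obj M ⟶ (Scheme.Modules.pushforward (r ≫ c)).obj K :=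
  mkPush (fun V z => ((pullbackCompIso t r rfl).hom.app M ≫ adj kab).app ((r ≫ c) ⁻¹ᵁ V)
      (unitSec r ((Scheme.Modules.pullback t).obj M) (V := (r ≫ c) ⁻¹ᵁ V) (U := c ⁻¹ᵁ V) le_rfl
        (QSheaf.tr ec M (le_refl (c ⁻¹ᵁ V)) z)))
    (fun V z z' => by rw [map_add, unitSec_add, map_add])
    (fun V s z => by
      rw [QSheaf.tr_smul, unitSec_smul, Scheme.Modules.Hom.app_smul]
      congr 1
      show (c.appLE V _ le_rfl ≫ r.appLE _ _ _) s = _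
      rw [Scheme.Hom.appLE_comp_appLE])
    (fun {V V'} hV z => by
      rw [QSheaf.tr_res ec M (le_refl (c ⁻¹ᵁ V)) (le_refl (c ⁻¹ᵁ V')) hV (c.preimage_mono hV),
        unitSec_res r ((Scheme.Modules.pullback t).obj M) (le_refl (r ⁻¹ᵁ (c ⁻¹ᵁ V)))
          (le_refl (r ⁻¹ᵁ (c ⁻¹ᵁ V'))) (c.preimage_mono hV) ((r ≫ c).preimage_mono hV)]
      exact app_res _ _ _)

theorem test_key (hkc : ∀ (V : P.Opens) (n : Γ(M, V)) (W : Z.Opens) (w₁ : W ≤ (r ≫ c) ⁻¹ᵁ (ql ⁻¹ᵁ V))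
      (w₂ : W ≤ (r ≫ t) ⁻¹ᵁ V), sc kc w₁ (sc kl le_rfl n) = sc kab w₂ n)
    (V : Q₀.Opens) (z : Γ((Scheme.Modules.pullback ql).obj M, V)) :
    ((pullbackCompIso t r rfl).hom.app M ≫ adj kab).app ((r ≫ c) ⁻¹ᵁ V)
        (unitSec r ((Scheme.Modules.pullback t).obj M) (V := (r ≫ c) ⁻¹ᵁ V) (U := c ⁻¹ᵁ V) le_rfl
          (QSheaf.tr ec M (le_refl (c ⁻¹ᵁ V)) z)) =
      sc kc (le_refl ((r ≫ c) ⁻¹ᵁ V)) ((adj kl).app V z) := by
  have hf : readMap ql t r c ec kab = adj kl ≫ kc := by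
    refine QEff.hom_ext_unitSec ql fun V n => ?_
    have wct : c ⁻¹ᵁ (ql ⁻¹ᵁ V) ≤ t ⁻¹ᵁ V := fun p hp => by
      show t p ∈ V
      rw [← ec]
      exact hp
    have wt : (r ≫ c) ⁻¹ᵁ (ql ⁻¹ᵁ V) ≤ (r ≫ t) ⁻¹ᵁ V := r.preimage_mono wct
    have h1 : (adj kl ≫ kc).app (ql ⁻¹ᵁ V) (unitSec ql M (le_refl (ql ⁻¹ᵁ V)) n) = sc kab wt n :=
      (congrArg (kc.app (ql ⁻¹ᵁ V)) (adj_unitSec kl _ n)).trans ((sc_self kc _).symm.trans (hkc V n _ _ wt))
    refine Eq.trans ?_ h1.symm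
    show (adj kab).app _ (((pullbackCompIso t r rfl).hom.app M).app _ (unitSec r _ _
      (QSheaf.tr ec M (le_refl (c ⁻¹ᵁ (ql ⁻¹ᵁ V))) (unitSec ql M (le_refl (ql ⁻¹ᵁ V)) n)))) = _
    rw [QSheaf.tr_unitSec ec M (le_refl (ql ⁻¹ᵁ V)) (le_refl _) wct]
    refine (congrArg ((adj kab).app _) ?_).trans (adj_unitSec kab wt n)
    exact QSheaf.tr_unitSec rfl M wct (le_refl (r ⁻¹ᵁ (c ⁻¹ᵁ (ql ⁻¹ᵁ V)))) wt n
  have := congr(Scheme.Modules.Hom.app $hf V z)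
  exact this.trans (sc_self kc _).symm

end Key

section Descend

variable {ι : Type u} {P : Scheme.{u}} {Q : ι → Scheme.{u}} (q : ∀ i, Q i ⟶ P)
  [QuasiCompactCover (⟨ι, Q, q⟩ : PreZeroHypercover.{u} P)] [∀ i, Flat (q i)]
  {M : P.Modules} [M.IsQuasicoherent] {L : ∀ i, (Q i).Modules}
  (k : ∀ i, M ⟶ (Scheme.Modules.pushforward (q i)).obj (L i))

/-- Compatibility of two comparison maps over a common test scheme. -/
def Comp2 {i j : ι} {U : P.Opens} (yi : Γ(L i, q i ⁻¹ᵁ U)) (yj : Γ(L j, q j ⁻¹ᵁ U))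
    (T : Scheme.{u}) (a : T ⟶ Q i) (b : T ⟶ Q j) : Prop :=
  ∃ (Z : Scheme.{u}) (r : Z ⟶ T) (_ : Flat r) (_ : Surjective r) (K : Z.Modules)
    (ka : L i ⟶ (Scheme.Modules.pushforward (r ≫ a)).obj K) (kb : L j ⟶ (Scheme.Modules.pushforward (r ≫ b)).obj K),
    Cart ka ∧
      (∀ (V : P.Opens) (n : Γ(M, V)) (W : Z.Opens) (wa : W ≤ (r ≫ a) ⁻¹ᵁ (q i ⁻¹ᵁ V))
        (wb : W ≤ (r ≫ b) ⁻¹ᵁ (q j ⁻¹ᵁ V)),
        sc ka wa (sc (k i) le_rfl n) = sc kb wb (sc (k j) le_rfl n)) ∧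
      ∀ (W : Z.Opens) (wa : W ≤ (r ≫ a) ⁻¹ᵁ (q i ⁻¹ᵁ U)) (wb : W ≤ (r ≫ b) ⁻¹ᵁ (q j ⁻¹ᵁ U)),
        sc ka wa yi = sc kb wb yj

/-- Compatible sections descend. -/
theorem existsUnique_sc (hk : ∀ i, Cart (k i)) (U : P.Opens) (y : ∀ i, Γ(L i, q i ⁻¹ᵁ U))
    (hc : ∀ i j (T : Scheme.{u}) (a : T ⟶ Q i) (b : T ⟶ Q j), a ≫ q i = b ≫ q j →
      Comp2 q k (y i) (y j) T a b) :
    ∃! n : Γ(M, U), ∀ i, sc (k i) (le_refl (q i ⁻¹ᵁ U)) n = y i := by
  haveI : ∀ i, IsIso (adj (k i)) := hk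
  let x : ∀ i, Γ((Scheme.Modules.pullback (q i)).obj M, q i ⁻¹ᵁ U) := fun i => (inv (adj (k i))).app _ (y i)
  have hx : ∀ i, (adj (k i)).app _ (x i) = y i := fun i => app_inv_app _ _ _
  have hn : ∃! n : Γ(M, U), ∀ i, unitSec (q i) M (le_refl (q i ⁻¹ᵁ U)) n = x i := by
    refine QSheaf.existsUnique_descend q M U x fun i j T a b t ea eb => ?_
    obtain ⟨Z, r, hrf, hrs, K, ka, kb, hka, hM, hy⟩ := hc i j T a b (ea.trans eb.symm)
    refine QSheaf.unitSec_ext (fun _ : PUnit.{1} => r) _ (fun z _ => ⟨⟨⟩, r.surjective z⟩) _ _ fun _ => ?_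
    let kab : M ⟶ (Scheme.Modules.pushforward (r ≫ t)).obj K :=
      kcomp (show (r ≫ a) ≫ q i = r ≫ t by rw [Category.assoc, ea]) (k i) ka
    haveI : IsIso (adj kab) := cart_kcomp _ (hk i) hka
    let Φ := (pullbackCompIso t r rfl).hom.app M ≫ adj kab
    have key := fun l c ec kc hkc => test_key (q l) (k l) t r c ec kab kc hkc
    have hA : ∀ (V : P.Opens) (n : Γ(M, V)) (W : Z.Opens) (w₁ : W ≤ (r ≫ a) ⁻¹ᵁ (q i ⁻¹ᵁ V))
        (w₂ : W ≤ (r ≫ t) ⁻¹ᵁ V), sc ka w₁ (sc (k i) le_rfl n) = sc kab w₂ n :=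
      fun V n W w₁ w₂ => sc_kcomp _ (k i) ka le_rfl w₁ w₂ n
    have eab : (r ≫ b) ≫ q j = r ≫ t := by rw [Category.assoc, eb]
    have hB : ∀ (V : P.Opens) (n : Γ(M, V)) (W : Z.Opens) (w₁ : W ≤ (r ≫ b) ⁻¹ᵁ (q j ⁻¹ᵁ V))
        (w₂ : W ≤ (r ≫ t) ⁻¹ᵁ V), sc kb w₁ (sc (k j) le_rfl n) = sc kab w₂ n := fun V n W w₁ w₂ => by
      have w₃ : W ≤ (r ≫ a) ⁻¹ᵁ (q i ⁻¹ᵁ V) :=
        w₂.trans (preimage_comp_le (q i) (r ≫ a) (show (r ≫ a) ≫ q i = r ≫ t by rw [Category.assoc, ea]) V)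
      rw [← hM V n W w₃ w₁, hA V n W w₃ w₂]
    refine app_injective_of_mono Φ _ ?_
    have ha := key i a ea ka hA (q i ⁻¹ᵁ U) (x i)
    have hb := key j b eb kb hB (q j ⁻¹ᵁ U) (x j)
    rw [hx] at ha hb
    have wi : r ⁻¹ᵁ (t ⁻¹ᵁ U) ≤ (r ≫ a) ⁻¹ᵁ (q i ⁻¹ᵁ U) := r.preimage_mono (preimage_comp_le (q i) a ea U)
    have wj : r ⁻¹ᵁ (t ⁻¹ᵁ U) ≤ (r ≫ b) ⁻¹ᵁ (q j ⁻¹ᵁ U) := r.preimage_mono (preimage_comp_le (q j) b eb U)
    have la : t ⁻¹ᵁ U ≤ a ⁻¹ᵁ (q i ⁻¹ᵁ U) := preimage_comp_le (q i) a ea U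
    have lb : t ⁻¹ᵁ U ≤ b ⁻¹ᵁ (q j ⁻¹ᵁ U) := preimage_comp_le (q j) b eb U
    have ha' := congrArg (res K wi) ha
    have hb' := congrArg (res K wj) hb
    rw [res_sc ka (le_refl _) wi] at ha'
    replace ha' := ((congrArg (Φ.app (r ⁻¹ᵁ (t ⁻¹ᵁ U))) (congrArg (unitSec r ((Scheme.Modules.pullback t).obj M) (le_refl _))
      ((QSheaf.tr_res ea M (le_refl (a ⁻¹ᵁ (q i ⁻¹ᵁ U))) la (le_refl _) la (x i)).symm.trans rfl))).symm.trans
      (res_app_unitSec Φ (le_refl (r ⁻¹ᵁ (a ⁻¹ᵁ (q i ⁻¹ᵁ U)))) (le_refl _) la wi _).symm).trans ha'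
    rw [res_self] at ha'
    rw [res_sc kb (le_refl _) wj] at hb'
    replace hb' := ((congrArg (Φ.app (r ⁻¹ᵁ (t ⁻¹ᵁ U))) (congrArg (unitSec r ((Scheme.Modules.pullback t).obj M) (le_refl _))
      ((QSheaf.tr_res eb M (le_refl (b ⁻¹ᵁ (q j ⁻¹ᵁ U))) lb (le_refl _) lb (x j)).symm.trans rfl))).symm.trans
      (res_app_unitSec Φ (le_refl (r ⁻¹ᵁ (b ⁻¹ᵁ (q j ⁻¹ᵁ U)))) (le_refl _) lb wj _).symm).trans hb'
    rw [res_self] at hb'
    exact ha'.trans ((hy _ wi wj).trans hb'.symm)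
  obtain ⟨n, hn, hu⟩ := hn
  refine ⟨n, fun i => ?_, fun n' hn' => hu n' fun i => ?_⟩
  · rw [← adj_unitSec, hn i, hx]
  · refine app_injective_of_mono (adj (k i)) _ ?_
    rw [adj_unitSec, hn' i, hx]

end Descend

end Groth.Agent.TwSh99
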