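import Groth.Agent.TwSh99.Local
import Groth.Agent.AlgSt88.Fibred

/-!
A banded gerbe restricted over an object of the base over which it has a section: the covering family of the
objects over the section.
-/

set_option autoImplicit false
set_option backward.isDefEq.respectTransparency false
set_option backward.isDefEq.respectTransparency.types false
set_option linter.style.haveILetI false

noncomputable section

universe u

open CategoryTheory CategoryTheory.Limits AlgebraicGeometry TopologicalSpace Opposite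

namespace Groth.Agent.TwSh99

open StMod (sch bmap fibCat)

variable {S : Scheme.{u}} {X : Over S} {𝒳 : AlgSt.Cat S}

theorem ofSch_hom_ext {a b : (AlgSt.ofSch X).obj} {f g : a ⟶ b} (h : f.hom = g.hom) : f = g :=
  Stk.EltObj.hom_ext h

theorem base_map (π : 𝒳 ⥤ᵇ AlgSt.ofSch X) {x x' : 𝒳.obj} (φ : x ⟶ x') :
    (π.map φ).hom = eqToHom (π.w_obj x) ≫ 𝒳.p.map φ ≫ eqToHom (π.w_obj x').symm :=
  AlgSt88.p_map_eq π φ

theorem fibCat_isFibGrpd (h𝒳 : FibCat.IsFibGrpd 𝒳.p) (π : 𝒳 ⥤ᵇ AlgSt.ofSch X) (η : (AlgSt.ofSch X).obj) :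
    FibCat.IsFibGrpd (fibCat π η).p := by
  refine AlgSt88.isFibGrpd_of (𝒳 := fibCat π η) (fun {x V} f => ?_) (fun {z y x} φ ψ g hg => ?_)
  · obtain ⟨y, hy, φ, hφ⟩ := AlgSt88.fg_exists_lift h𝒳 (x := x.left) f
    exact ⟨CostructuredArrow.mk (π.map φ ≫ x.hom), hy, CostructuredArrow.homMk φ, hφ⟩
  · obtain ⟨χ, h1, h2⟩ := AlgSt88.fg_exists_fac h𝒳 φ.left ψ.left g hg
    have hw : π.map χ ≫ y.hom = z.hom := by
      rw [← CostructuredArrow.w φ, ← CostructuredArrow.w ψ, ← Category.assoc]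
      exact congrArg (· ≫ x.hom) ((π.toFunctor.map_comp χ φ.left).symm.trans (congrArg π.map h2))
    refine ⟨CostructuredArrow.homMk χ hw, ⟨h1, CostructuredArrow.hom_ext _ _ h2⟩, fun χ' h => ?_⟩
    exact CostructuredArrow.hom_ext _ _ (AlgSt88.fg_hom_ext h𝒳 φ.left (h.1.trans h1.symm)
      ((congrArg CommaMorphism.left h.2).trans h2.symm))

variable (π : 𝒳 ⥤ᵇ AlgSt.ofSch X) {η : (AlgSt.ofSch X).obj} (s : 𝒳.obj) (e : π.obj s ⟶ η)

/-- the objects over the section, in the category over the object of the base -/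
def slice : Over s ⥤ (fibCat π η).obj where
  obj o := CostructuredArrow.mk (π.map o.hom ≫ e)
  map {o o'} m := CostructuredArrow.homMk m.left (by
    show π.map m.left ≫ π.map o'.hom ≫ e = π.map o.hom ≫ e
    rw [← Category.assoc]
    exact congrArg (· ≫ e) ((π.toFunctor.map_comp _ _).symm.trans (congrArg π.map (Over.w m))))
  map_id o := CostructuredArrow.hom_ext _ _ rfl
  map_comp f g := CostructuredArrow.hom_ext _ _ rfl

theorem slice_isFibGrpd (h𝒳 : FibCat.IsFibGrpd 𝒳.p) : FibCat.IsFibGrpd (slice π s e ⋙ (fibCat π η).p) := by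
  refine AlgSt88.isFibGrpd_of (𝒳 := srcCat (fibCat π η) (slice π s e)) (fun {x V} f => ?_)
    (fun {z y x} φ ψ g hg => ?_)
  · obtain ⟨y, hy, φ, hφ⟩ := AlgSt88.fg_exists_lift h𝒳 (x := x.left) f
    exact ⟨Over.mk (φ ≫ x.hom), hy, Over.homMk φ rfl, hφ⟩
  · obtain ⟨χ, h1, h2⟩ := AlgSt88.fg_exists_fac h𝒳 φ.left ψ.left g hg
    have hw : χ ≫ y.hom = z.hom := by
      rw [← Over.w φ, ← Over.w ψ, ← Category.assoc]
      exact congrArg (· ≫ x.hom) h2
    refine ⟨Over.homMk χ hw, ⟨h1, Over.OverMorphism.ext h2⟩, fun χ' h => ?_⟩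
    exact Over.OverMorphism.ext (AlgSt88.fg_hom_ext h𝒳 φ.left (h.1.trans h1.symm)
      ((congrArg CommaMorphism.left h.2).trans h2.symm))

variable {A : (Over S)ᵒᵖ ⥤ GrpCat.{u}} {ι : TwSh.BandHom 𝒳 A}

theorem fib_injective (hπ : TwSh.IsBandedGerbe (QuotSh.J Scheme.fppfPrecoverage S) π ι) (η : (AlgSt.ofSch X).obj)
    (x : (fibCat π η).obj) :
    Function.Injective ((TwSh.BandHom.fib π η ι (TwSh.IsBandedGerbe.map_hom_eq_id π hπ)).hom x) := by
  intro a b h
  refine (hπ.2 x.left).1 (Aut.ext (Functor.Fiber.hom_ext ?_))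
  exact congrArg (fun σ : Gerb.AutO x => σ.hom.1.left) h

/-- the data for extending modules from the objects over the section -/
theorem sliceData (h𝒳 : FibCat.IsFibGrpd 𝒳.p)
    (hπ : TwSh.IsBandedGerbe (QuotSh.J Scheme.fppfPrecoverage S) π ι) [IsIso e.hom] :
    DecData (slice π s e) (TwSh.BandHom.fib π η ι (TwSh.IsBandedGerbe.map_hom_eq_id π hπ)) where
  fib := fibCat_isFibGrpd h𝒳 π η
  fibSrc := slice_isFibGrpd π s e h𝒳
  cov ξ := by
    let g : 𝒳.p.obj ξ.left ⟶ 𝒳.p.obj s :=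
      eqToHom (π.w_obj ξ.left).symm ≫ ξ.hom.hom ≫ inv e.hom ≫ eqToHom (π.w_obj s)
    obtain ⟨x₁, hx₁, ψ₁, hψ₁⟩ := AlgSt88.fg_exists_lift h𝒳 g
    have hg : g ≫ eqToHom (π.w_obj s).symm ≫ e.hom = eqToHom (π.w_obj ξ.left).symm ≫ ξ.hom.hom := by
      simp [g]
    -- the identification of the two objects of the base
    let b₀ : (π.obj ξ.left).base ⟶ (π.obj x₁).base :=
      eqToHom (π.w_obj ξ.left) ≫ eqToHom hx₁.symm ≫ eqToHom (π.w_obj x₁).symm
    have hb₀ : b₀ ≫ (π.map ψ₁).hom ≫ e.hom = ξ.hom.hom := by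
      rw [base_map π ψ₁, hψ₁]
      simp [b₀, g]
    let b : π.obj ξ.left ⟶ π.obj x₁ := ⟨b₀, by
      refine ULift.ext _ _ ?_
      show b₀ ≫ (π.obj x₁).sec.down = (π.obj ξ.left).sec.down
      have h1 : (π.map ψ₁ ≫ e).hom ≫ η.sec.down = (π.obj x₁).sec.down :=
        congrArg ULift.down (π.map ψ₁ ≫ e).map_sec
      have h2 : ξ.hom.hom ≫ η.sec.down = (π.obj ξ.left).sec.down := congrArg ULift.down ξ.hom.map_sec
      rw [← h1, ← h2, ← hb₀]
      simp⟩
    have hbe : b ≫ π.map ψ₁ ≫ e = ξ.hom := ofSch_hom_ext hb₀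
    haveI : (AlgSt.ofSch X).p.IsHomLift (𝟙 (𝒳.p.obj ξ.left)) b :=
      IsHomLift.of_fac' (AlgSt.ofSch X).p _ b (π.w_obj ξ.left) ((π.w_obj x₁).trans hx₁) (by
        show b₀ = _
        simp [b₀])
    obtain ⟨R, hR, h⟩ := hπ.1.2 ξ.left x₁ b inferInstance
    obtain ⟨C, -⟩ := exists_cov_of_mem (𝒴 := fibCat π η) (f := fun o => (slice π s e).obj o) (η := ξ) hR
      (fun _ _ => True) fun V f hf => by
      obtain ⟨x₀, φ, ψ, hφ, hψ, hφψ⟩ := h f hf
      let c : (slice π s e).obj (Over.mk (ψ ≫ ψ₁)) ⟶ ξ := CostructuredArrow.homMk φ (by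
        show π.map φ ≫ ξ.hom = π.map (ψ ≫ ψ₁) ≫ e
        rw [← hbe, ← Category.assoc, hφψ, π.toFunctor.map_comp, Category.assoc])
      refine ⟨Over.mk (ψ ≫ ψ₁), c, ?_, trivial⟩
      exact IsHomLift.of_fac' (fibCat π η).p f c (IsHomLift.domain_eq 𝒳.p f φ)
        rfl (IsHomLift.fac' 𝒳.p f φ)
    exact ⟨C⟩
  exists_decomp {b a} c := by
    have hc : π.map c.left ≫ π.map a.hom ≫ e = π.map b.hom ≫ e := CostructuredArrow.w c
    have hbase : 𝒳.p.map (c.left ≫ a.hom) = 𝒳.p.map b.hom := by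
      have h1 := congrArg (fun m => m.hom) hc
      simp only [Stk.EltObj.comp_hom, ← Category.assoc, cancel_mono] at h1
      rw [← Stk.EltObj.comp_hom, ← π.toFunctor.map_comp, base_map, base_map] at h1
      exact (cancel_mono (eqToHom (π.w_obj s).symm)).1 ((cancel_epi (eqToHom (π.w_obj b.left))).1 h1)
    obtain ⟨χ, h1, h2⟩ := AlgSt88.fg_exists_fac h𝒳 a.hom b.hom (𝒳.p.map c.left)
      ((𝒳.p.map_comp _ _).symm.trans hbase)
    obtain ⟨τ, hτ, hτc⟩ := AlgSt88.fg_exists_fac h𝒳 χ c.left (𝟙 _) ((Category.id_comp _).trans h1)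
    haveI : IsIso τ := by
      haveI : IsIso (𝒳.p.map τ) := by rw [hτ]; infer_instance
      exact AlgSt88.fg_isIso_of_isIso_map h𝒳 τ
    have hl : 𝒳.p.IsHomLift (𝟙 (𝒳.p.obj b.left)) τ := IsHomLift.of_fac' _ _ τ rfl rfl (by rw [hτ]; simp)
    have hl' : 𝒳.p.IsHomLift (𝟙 (𝒳.p.obj b.left)) (inv τ) := by
      refine IsHomLift.of_fac' _ _ (inv τ) rfl rfl ?_
      rw [Functor.map_inv]
      refine IsIso.inv_eq_of_hom_inv_id ?_
      rw [hτ]
      simp
    let σ : Gerb.AutO b.left :=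
      { hom := ⟨τ, hl⟩
        inv := ⟨inv τ, hl'⟩
        hom_inv_id := by apply Functor.Fiber.hom_ext; exact IsIso.hom_inv_id τ
        inv_hom_id := by apply Functor.Fiber.hom_ext; exact IsIso.inv_hom_id τ }
    have hker : σ ∈ (Gerb.autMap π b.left).ker := by
      rw [MonoidHom.mem_ker]
      apply Aut.ext; apply Functor.Fiber.hom_ext
      refine ofSch_hom_ext ?_
      show (π.map τ).hom = 𝟙 _
      rw [base_map, hτ]
      simp
    rw [← (hπ.2 b.left).2] at hker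
    obtain ⟨t, ht⟩ := hker
    refine ⟨t, Over.homMk χ h2, CostructuredArrow.hom_ext _ _ ?_⟩
    show (ι.hom b.left t).hom.1 ≫ χ = c.left
    rw [ht]
    exact hτc
  decomp_unique {b a t t' m m'} h := by
    have hl : (ι.hom b.left t).hom.1 ≫ m.left = (ι.hom b.left t').hom.1 ≫ m'.left :=
      congrArg CommaMorphism.left h
    have hm : m = m' := by
      refine Over.OverMorphism.ext (AlgSt88.fg_hom_ext h𝒳 a.hom ?_ ((Over.w m).trans (Over.w m').symm))
      have := congrArg 𝒳.p.map hl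
      rwa [Functor.map_comp, Functor.map_comp, TwSh.map_autO_hom, TwSh.map_autO_hom, Category.id_comp,
        Category.id_comp] at this
    subst hm
    refine ⟨fib_injective π hπ η _ (Aut.ext (Functor.Fiber.hom_ext ?_)), rfl⟩
    refine CostructuredArrow.hom_ext _ _ ?_
    exact AlgSt88.fg_hom_ext h𝒳 m.left ((TwSh.map_autO_hom _ _).trans (TwSh.map_autO_hom _ _).symm) hl

end Groth.Agent.TwSh99
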